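import Groth.Agent.ParSch.K803.RComb
import Mathlib.LinearAlgebra.RootSystem.Finite.G2
import Mathlib.LinearAlgebra.Dimension.Finite
import Mathlib.LinearAlgebra.Dimension.Constructions

/-!
# A triple edge forces type `G₂`
-/

set_option autoImplicit false

open RootPairing Set

namespace K214.G2

variable {ι M N : Type*} [Finite ι] [AddCommGroup M] [AddCommGroup N] {P : RootPairing ι ℤ M N}
  [P.IsReduced]

/-- an indecomposable root system with roots of pairing `-3` has 12 roots in a plane -/
theorem of_pairing (hirr : ∀ R' : Set ι, (∀ i ∈ R', ∀ j ∉ R', P.pairing i j = 0) → R' = ∅ ∨ R' = univ)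
    {a b : ι} (h : P.pairing a b = -3) : Nat.card ι = 12 ∧
      (∀ i, P.root i ∈ Submodule.span ℤ {P.root a, P.root b}) ∧
      LinearIndependent ℤ ![P.root b, P.root a] := by
  classical
  have : P.IsCrystallographic := inferInstance
  have h' : P.pairingIn ℤ a b = -3 := by
    have := P.algebraMap_pairingIn ℤ a b
    rw [h] at this
    simpa using this
  let _ : P.EmbeddedG2 := { long := a, short := b, pairingIn_long_short := h' }
  have hall : ∀ i, P.root i ∈ EmbeddedG2.allRoots P := by
    have h1 := hirr {i | P.root i ∈ EmbeddedG2.allRoots P} (by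
      intro i hi j hj
      obtain ⟨h2, h3⟩ := EmbeddedG2.isOrthogonal_short_and_long P hj
      have h4 := EmbeddedG2.mem_span_of_mem_allRoots P hi
      have h5 : P.coroot' j (P.root b) = 0 := by
        rw [root_coroot'_eq_pairing]; exact h2.2
      have h6 : P.coroot' j (P.root a) = 0 := by
        rw [root_coroot'_eq_pairing]; exact h3.2
      rw [← root_coroot'_eq_pairing]
      refine Submodule.span_induction (p := fun x _ => P.coroot' j x = 0) ?_ (map_zero _) ?_ ?_ h4
      · rintro x (rfl | rfl)
        · exact h6
        · exact h5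
      · intro x y _ _ hx hy
        rw [map_add, hx, hy, add_zero]
      · intro r x _ hx
        rw [map_smul, hx, smul_zero])
    rcases h1 with h1 | h1
    · exfalso
      have : a ∈ ({i | P.root i ∈ EmbeddedG2.allRoots P} : Set ι) := by
        change P.root a ∈ EmbeddedG2.allRoots P
        exact List.mem_cons_self
      rw [h1] at this
      exact this
    · intro i
      have : i ∈ ({i | P.root i ∈ EmbeddedG2.allRoots P} : Set ι) := by
        rw [h1]
        exact mem_univ i
      exact this
  refine ⟨?_, fun i => EmbeddedG2.mem_span_of_mem_allRoots P (hall i),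
    EmbeddedG2.linearIndependent_short_long P⟩
  let e : ι ≃ (EmbeddedG2.allRoots P).toFinset :=
    { toFun i := ⟨P.root i, List.mem_toFinset.mpr (hall i)⟩
      invFun x := (EmbeddedG2.allRoots_subset_range_root P x.property).choose
      left_inv i := by
        apply P.root.injective
        exact (EmbeddedG2.allRoots_subset_range_root P
          (List.mem_toFinset.mpr (hall i) : P.root i ∈ (EmbeddedG2.allRoots P).toFinset)).choose_spec
      right_inv := by
        rintro ⟨x, hx⟩
        simp only [Subtype.mk.injEq]
        exact (EmbeddedG2.allRoots_subset_range_root P hx).choose_spec }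
  rw [Nat.card_congr e, Nat.card_eq_fintype_card, Fintype.card_coe,
    List.toFinset_card_of_nodup (EmbeddedG2.allRoots_nodup P)]
  rfl

omit [Finite ι] [P.IsReduced] in
/-- the rank -/
theorem finrank_eq_two [Module.Free ℤ M] [Module.Finite ℤ M] {a b : ι} {d : ℕ} (hd : d ≠ 0)
    (hspan : ∀ m : M, d • m ∈ Submodule.span ℤ (Set.range P.root))
    (h : ∀ i, P.root i ∈ Submodule.span ℤ {P.root a, P.root b})
    (hli : LinearIndependent ℤ ![P.root b, P.root a]) : Module.finrank ℤ M = 2 := by
  have h1 : Submodule.span ℤ (Set.range ![P.root b, P.root a]) =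
      Submodule.span ℤ {P.root a, P.root b} := by
    rw [Matrix.range_cons, Matrix.range_cons, Matrix.range_empty, union_empty, Set.pair_comm]
    rfl
  have h2 : Module.finrank ℤ (Submodule.span ℤ (Set.range ![P.root b, P.root a])) = 2 := by
    rw [finrank_span_eq_card hli]
    rfl
  rw [h1] at h2
  have h3 : Submodule.span ℤ (Set.range P.root) ≤ Submodule.span ℤ {P.root a, P.root b} := by
    rw [Submodule.span_le]
    rintro _ ⟨i, rfl⟩
    exact h i
  let f : M →ₗ[ℤ] Submodule.span ℤ {P.root a, P.root b} :=
    LinearMap.codRestrict _ (LinearMap.lsmul ℤ M (d : ℤ)) (fun m => by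
      have := h3 (hspan m)
      simpa using this)
  have hf : Function.Injective f := by
    intro x y hxy
    have h4 : (d : ℤ) • x = (d : ℤ) • y := congrArg Subtype.val hxy
    exact smul_right_injective M (by exact_mod_cast hd : (d : ℤ) ≠ 0) h4
  apply le_antisymm
  · rw [← h2]
    exact LinearMap.finrank_le_finrank_of_injective hf
  · rw [← h2]
    exact Submodule.finrank_le _

end K214.G2
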