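import Groth.Agent.ParSch.K214.Main
import Groth.Agent.ParSch.K214.G2
import Groth.Agent.ParSch.K803.Irr
import Groth.Agent.Red.K214.TypeUniq
import Groth.Agent.RedSub.H161.RootSpan

/-!
# Parabolic subgroup schemes with maximal reduced part and trivial core are reduced
-/

set_option autoImplicit false
universe u

open CategoryTheory AlgebraicGeometry
open scoped MonObj GrpObj

namespace K214.Assem

open Groth.Agent.Sga3B Groth.Agent.Sga3B.Cell Groth.Agent.Sga3B.PinMod Groth.Agent.Sga3B.Parab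
open K803.SubPt K803.HtOne K214.ChevDual K214.Core

variable {k : Type u} [Field k] {G : Over (Spec (CommRingCat.of k))} [GrpObj G]

/-- points of the trivial group -/
lemma eq_one_of_trivial {N : Over (Spec (CommRingCat.of k))} [GrpObj N] (n : N ⟶ G) [IsMonHom n]
    (h : Red.IsTrivialGrp N) (c : Chart G (𝟙 (Spec (CommRingCat.of k)))) {B : Type u} [CommRing B]
    [Algebra k B] {g : Pt k c.A B} (hg : g ∈ sub c n B) : g = 1 := by
  have h1 : IsIso N.hom := h
  obtain ⟨y, hy⟩ := hg
  have h2 : y = 1 := by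
    ext1
    rw [← cancel_mono N.hom, Over.w, Over.w]
  rw [h2, MonObj.one_comp] at hy
  exact (c.pts B).injective (hy.symm.trans (map_one _).symm)

/-- type `G₂` -/
theorem g2_of_pairing [IsAlgClosed k] (hG : Red.IsSemisimpleOver k G)
    (hsimple : ∀ (N : Over (Spec (CommRingCat.of k))) [GrpObj N] (n : N ⟶ G) [IsMonHom n],
      IsClosedImmersion n.left → Smooth N.hom → ConnectedSpace N.left → AlgGrp.IsNormalHom n →
      Red.IsTrivialGrp N ∨ IsIso n)
    (D D₁ : Red.SplitRed G) {a b : D₁.idx} (h : D₁.P.pairing a b = -3) :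
    Module.finrank ℤ D.M = 2 ∧ Fintype.card D.idx = 12 := by
  have hred : D₁.P.IsReduced := K803.Split.isReduced D₁
  obtain ⟨h1, h2, h3⟩ := K214.G2.of_pairing (P := D₁.P)
    (fun R' hR' => K803.Irr.eq_empty_or_univ D₁ hG hsimple hR') h
  have : Nonempty (Spec (CommRingCat.of k)) := inferInstance
  obtain ⟨d, hd, hspan⟩ := Groth.Agent.RedSub.H161.RootSpan.span_of_isSemisimple D₁
    (AlgBc.isSemisimple_iff.2 hG)
  have h4 := K214.G2.finrank_eq_two hd hspan h2 h3
  obtain ⟨e⟩ := K214.TypeUniq.nonempty_equiv D₁ D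
  constructor
  · rw [← (RootPairing.Equiv.weightEquiv _ _ e).finrank_eq, h4]
  · rw [← Nat.card_eq_fintype_card, ← Nat.card_congr e.indexEquiv, h1]

/-- the trivial core contradicts the main step -/
theorem false_of_core {D : Red.SplitRed G} {c : Chart G (𝟙 (Spec (CommRingCat.of k)))}
    {P : Over (Spec (CommRingCat.of k))} [GrpObj P] {iP : P ⟶ G} [IsMonHom iP]
    [IsClosedImmersion iP.left]
    (hcore : ∀ (N : Over (Spec (CommRingCat.of k))) [GrpObj N] (n : N ⟶ G) [IsMonHom n],
      IsClosedImmersion n.left → AlgGrp.IsNormalHom n → (∃ f : N ⟶ P, f ≫ iP = n) → Red.IsTrivialGrp N)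
    {b : D.idx} (hb : ∀ (B : Type u) [CommRing B] [Algebra k B] (ε : B), ε * ε = 0 →
      ∀ g : Pt k c.A B, g * (c.datum D).uu b B ε * g⁻¹ ∈ sub c iP B) : False := by
  have himono : Mono iP := Over.mono_of_mono_left iP
  obtain ⟨I, hI⟩ := exists_ideal c iP
  obtain ⟨N, _, n, _, hncl, hnn, hN⟩ := exists_core_grp (S := fun B _ _ => sub c iP B) hI
  have htriv := hcore N n hncl hnn ((exists_hom_iff c n iP).2 fun B _ _ g hg =>
    InCore.mem ((hN B g).1 hg))
  have hε : (DualNumber.eps : DualNumber k) * DualNumber.eps = 0 := DualNumber.eps_mul_eps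
  have h5 : (c.datum D).uu b (DualNumber k) DualNumber.eps ∈ sub c n (DualNumber k) := by
    rw [hN]
    intro C _ _ φ g
    rw [(c.datum D).uu_nat]
    refine hb C _ ?_ g
    rw [← map_mul, hε, map_zero]
  have h6 := eq_one_of_trivial n htriv c h5
  rw [← (c.datum D).uu_zero b] at h6
  have h7 := congrArg TrivSqZeroExt.snd ((c.datum D).uu_inj b h6)
  simp at h7

/-- **The theorem.** -/
theorem isReduced [IsAlgClosed k] (p : ℕ) [Fact p.Prime] [CharP k p]
    (hG : Red.IsSemisimpleOver k G)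
    (hsimple : ∀ (N : Over (Spec (CommRingCat.of k))) [GrpObj N] (n : N ⟶ G) [IsMonHom n],
      IsClosedImmersion n.left → Smooth N.hom → ConnectedSpace N.left → AlgGrp.IsNormalHom n →
      Red.IsTrivialGrp N ∨ IsIso n)
    (D : Red.SplitRed G)
    (hG2 : ¬ (p = 2 ∧ Module.finrank ℤ D.M = 2 ∧ Fintype.card D.idx = 12))
    (P : Over (Spec (CommRingCat.of k))) [GrpObj P] (iP : P ⟶ G) [IsMonHom iP] (hPcl : IsClosedImmersion iP.left)
    (B : Over (Spec (CommRingCat.of k))) [GrpObj B] (b : B ⟶ P) (hB : Red.IsBorelOver k (b ≫ iP))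
    (Q : Over (Spec (CommRingCat.of k))) [GrpObj Q] (j : Q ⟶ G) [IsMonHom j] (hQcl : IsClosedImmersion j.left)
    [Smooth Q.hom] (hQP : Set.range j.left.base = Set.range iP.left.base)
    (hQne : Set.range j.left.base ≠ Set.univ)
    (hQmax : ∀ (Q' : Over (Spec (CommRingCat.of k))) [GrpObj Q'] (j' : Q' ⟶ G) [IsMonHom j'],
      IsClosedImmersion j'.left → Smooth Q'.hom → Set.range j.left.base ⊆ Set.range j'.left.base →
      Set.range j'.left.base ⊆ Set.range j.left.base ∨ Set.range j'.left.base = Set.univ)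
    (hcore : ∀ (N : Over (Spec (CommRingCat.of k))) [GrpObj N] (n : N ⟶ G) [IsMonHom n],
      IsClosedImmersion n.left → AlgGrp.IsNormalHom n → (∃ f : N ⟶ P, f ≫ iP = n) → Red.IsTrivialGrp N) :
    IsReduced P.left := by
  by_contra hred
  have hGr : Red.IsReductive G := AlgBc.isReductive_iff.2 hG.1
  have hGa : IsAffineHom G.hom := hGr.1
  have hBsm : Smooth B.hom := hB.2.2.1
  have hBred : IsReduced B.left := K214.Setup.isReduced_of_smooth B
  have hQred : IsReduced Q.left := K214.Setup.isReduced_of_smooth Q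
  obtain ⟨b', hb'⟩ := K214.Setup.exists_lift j (b ≫ iP) (by
    rw [hQP]
    rintro _ ⟨y, rfl⟩
    exact ⟨b.left y, by rw [Over.comp_left, Scheme.Hom.comp_apply]⟩)
  have hQpar : Red.IsParabolicOver k j := ⟨inferInstance, hQcl, inferInstance, B, inferInstance, b', by
    rw [hb']; exact hB⟩
  obtain ⟨D₁, Δ, α, x, hα, hxα, hx, hj⟩ := K214.Setup.exists_max hGr Q j hQpar hQne hQmax
  obtain ⟨v, vd, σ, hv, H⟩ := K214.Main.exists_chv D₁
  obtain ⟨c⟩ := exists_chart G (𝟙 (Spec (CommRingCat.of k)))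
  obtain ⟨b₀, hb₀⟩ := K214.Main.exists_conj_mem (D := withU D₁ v hv) H
    (K803.Irr.irr (withU D₁ v hv) hG hsimple) hQP hj hred Δ hα hxα hx (by
      intro h2 a b hab _
      apply hG2
      refine ⟨?_, g2_of_pairing hG hsimple D (withU D₁ v hv) hab⟩
      have h3 : ((2 : ℕ) : k) = 0 := by exact_mod_cast h2
      have h4 := (CharP.cast_eq_zero_iff k p 2).1 h3
      exact (Nat.prime_dvd_prime_iff_eq Fact.out Nat.prime_two).1 h4) c
  exact false_of_core hcore hb₀

end K214.Assem
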