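import Groth.Agent.Red.K214.ChevPts
import Groth.Agent.Red.K214.ChainComb
import Groth.Agent.ParSch.K803.HtOne

/-!
# Commutators of root groups with infinitesimal arguments, from a Chevalley system

`D` a splitting of a group over a field whose root homomorphisms are a Chevalley system.
-/

set_option autoImplicit false
universe u
open CategoryTheory AlgebraicGeometry

namespace K214.Brk

open Groth.Agent.Sga3B Groth.Agent.Sga3B.Cell Groth.Agent.Sga3B.Cell.Datum
  Groth.Agent.Sga3B.PinMod K214.ChevDual K214.ChevPts K214.PairComb K214.ChainComb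

variable {k : Type u} [Field k] {G : Over (Spec (CommRingCat.of k))} [GrpObj G]
  {D : Red.SplitRed G} {c : Chart G (𝟙 (Spec (CommRingCat.of k)))}
  {vd : D.idx → (Red.Ga (Spec (CommRingCat.of k)) ⟶ G)} {σ : D.idx → D.idx → ℤ}

lemma uu_eq (c : Chart G (𝟙 (Spec (CommRingCat.of k)))) (a : D.idx) {B : Type u} [CommRing B]
    [Algebra k B] (x : B) : Wp c (D.u a) B x = (c.datum D).uu a B x := Wp_eq_uu c D a B x

/-- the commutator of two points of root groups -/
noncomputable def com (D : Red.SplitRed G) (c : Chart G (𝟙 (Spec (CommRingCat.of k)))) (a b : D.idx)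
    {B : Type u} [CommRing B] [Algebra k B] (x y : B) : Pt k c.A B :=
  (c.datum D).uu a B x * (c.datum D).uu b B y * ((c.datum D).uu a B x)⁻¹ *
    ((c.datum D).uu b B y)⁻¹

lemma com_swap (a b : D.idx) {B : Type u} [CommRing B] [Algebra k B] (x y : B) :
    com D c a b x y = (com D c b a y x)⁻¹ := by
  unfold com; group

/-- the statement: the commutator of two infinitesimal points is given by the constant `n` -/
def Const (D : Red.SplitRed G) (c : Chart G (𝟙 (Spec (CommRingCat.of k)))) (a b e : D.idx) (n : ℤ) :
    Prop :=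
  ∀ (B : Type u) [CommRing B] [Algebra k B] (s t : B), s * s = 0 → t * t = 0 →
    com D c a b s t = (c.datum D).uu e B ((n : B) * (s * t))

lemma uu_inv (e : D.idx) {B : Type u} [CommRing B] [Algebra k B] (x : B) :
    ((c.datum D).uu e B x)⁻¹ = (c.datum D).uu e B (-x) := by
  rw [inv_eq_iff_mul_eq_one, ← (c.datum D).uu_add, add_neg_cancel]
  exact (c.datum D).uu_zero e

lemma Const.swap {a b e : D.idx} {n : ℤ} (h : Const D c a b e n) : Const D c b a e (-n) := by
  intro B _ _ s t hs ht
  rw [com_swap, h B t s ht hs, uu_inv]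
  congr 1
  push_cast
  ring

lemma Chv.sgn_sq (H : Chv D D.u vd σ) (a b : D.idx) (B : Type u) [CommRing B] :
    (σ a b : B) * (σ a b : B) = 1 := by
  rcases H.sgn a b with h | h <;> rw [h] <;> simp

section tables

variable (H : Chv D D.u vd σ) (Δ : D.P.Base) {a b : D.idx} (hI : Ind D.P a b)

include H Δ hI

theorem const_a2 (pba : D.P.pairing b a = -1) (pab : D.P.pairing a b = -1) :
    Const D c b a (D.P.reflectionPerm b a) (σ b a) := by
  intro B _ _ s t _ _
  have h := a2_chart c H Δ hI pba pab B t s
  simp only [uu_eq] at h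
  rw [mul_comm s t]
  exact h

theorem const_b2 (pba : D.P.pairing b a = -2) (pab : D.P.pairing a b = -1) :
    Const D c b a (D.P.reflectionPerm b a) (σ b a) ∧
    Const D c (D.P.reflectionPerm b a) a (D.P.reflectionPerm a b) (σ a b * σ b a * 2) := by
  constructor
  · intro B _ _ s t _ ht
    have h := (b2_chart c H Δ hI pba pab B t s).1
    simp only [uu_eq] at h
    rw [pow_two, ht, zero_mul, neg_zero, mul_zero, (c.datum D).uu_zero, mul_one] at h
    rw [mul_comm s t]
    exact h
  · intro B _ _ s t _ _
    have h := (b2_chart c H Δ hI pba pab B t ((σ b a : B) * s)).2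
    simp only [uu_eq] at h
    rw [← mul_assoc, Chv.sgn_sq H, one_mul] at h
    refine h.trans ?_
    congr 1
    push_cast
    ring

theorem const_g2 (pba : D.P.pairing b a = -3) (pab : D.P.pairing a b = -1) :
    Const D c b a (D.P.reflectionPerm b a) (σ b a) ∧
    Const D c (D.P.reflectionPerm b a) a (D.P.reflectionPerm a (D.P.reflectionPerm b a))
      (σ a (D.P.reflectionPerm b a) * 2) ∧
    Const D c (D.P.reflectionPerm a (D.P.reflectionPerm b a)) a (D.P.reflectionPerm a b)
      (-(σ a b * (σ b a * σ a (D.P.reflectionPerm b a)) * 3)) := by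
  have key := fun (B : Type u) [CommRing B] [Algebra k B] (x y : B) =>
    g2_chart c H Δ hI pba pab B _ _ _ _ (fun _ => rfl) (fun _ => rfl)
      (fun _ => rfl) (fun _ => rfl) x y
  simp only [uu_eq] at key
  refine ⟨?_, ?_, ?_⟩
  · intro B _ _ s t _ ht
    have h := (key B t s).1
    have h2 : t ^ 2 = 0 := by rw [pow_two, ht]
    have h3 : t ^ 3 = 0 := by rw [pow_succ, h2, zero_mul]
    simp only [h2, h3, zero_mul, neg_zero, mul_zero, (c.datum D).uu_zero, mul_one] at h
    rw [mul_comm s t]
    exact h
  · intro B _ _ s t hs ht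
    have h := (key B t ((σ b a : B) * s)).2.1
    have h2 : t ^ 2 = 0 := by rw [pow_two, ht]
    have h3 : ((σ b a : B) * s) ^ 2 = 0 := by rw [pow_two, mul_mul_mul_comm, hs, mul_zero]
    rw [← mul_assoc, Chv.sgn_sq H, one_mul] at h
    simp only [h2, h3, zero_mul, neg_zero, mul_zero, (c.datum D).uu_zero, mul_one] at h
    refine h.trans ?_
    congr 1
    have := Chv.sgn_sq H b a B
    push_cast
    linear_combination (2 * (σ a (D.P.reflectionPerm b a) : B) * t * s) * this
  · intro B _ _ s t _ _
    have h := (key B t ((σ b a : B) * ((σ a (D.P.reflectionPerm b a) : B) * s))).2.2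
    have e1 : (σ a (D.P.reflectionPerm b a) : B) * ((σ b a : B) *
        ((σ b a : B) * ((σ a (D.P.reflectionPerm b a) : B) * s))) = s := by
      have h1 := Chv.sgn_sq H b a B
      have h2 := Chv.sgn_sq H a (D.P.reflectionPerm b a) B
      linear_combination ((σ a (D.P.reflectionPerm b a) : B) ^ 2 * s) * h1 + s * h2
    rw [e1] at h
    refine h.trans ?_
    congr 1
    push_cast
    ring

end tables

end K214.Brk
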