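import Groth.Agent.ParSch.K214.Brk

/-!
# The structure constant of two independent roots `x, y` with `x + y` a root
-/

set_option autoImplicit false
universe u
open CategoryTheory AlgebraicGeometry

namespace K214.Brk

open Groth.Agent.Sga3B Groth.Agent.Sga3B.Cell Groth.Agent.Sga3B.Cell.Datum
  Groth.Agent.Sga3B.PinMod K214.ChevDual K214.ChevPts K214.PairComb K214.ChainComb

section comb

variable {ι M N : Type*} [AddCommGroup M] [AddCommGroup N]

/-- the four kinds of pairs `x, y` with `x + y = e` a root, with the structure constant `n` -/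
def Kind (P : RootPairing ι ℤ M N) (x y e : ι) (n : ℤ) : Prop :=
  (n = 1 ∨ n = -1) ∨
  ((n = 2 ∨ n = -2) ∧ ∃ b, P.pairing b x = -2 ∧ P.pairing x b = -1 ∧ y = P.reflectionPerm b x ∧
    e = P.reflectionPerm x b) ∨
  ((n = 2 ∨ n = -2) ∧ ∃ b, P.pairing b x = -3 ∧ P.pairing x b = -1 ∧ y = P.reflectionPerm b x ∧
    e = P.reflectionPerm x (P.reflectionPerm b x)) ∨
  ((n = 3 ∨ n = -3) ∧ ∃ b, P.pairing b x = -3 ∧ P.pairing x b = -1 ∧
    y = P.reflectionPerm x (P.reflectionPerm b x) ∧ e = P.reflectionPerm x b)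

variable {P : RootPairing ι ℤ M N}

lemma root_refl (x b : ι) : P.root (P.reflectionPerm x b) = P.root b - P.pairing b x • P.root x := by
  rw [P.root_reflectionPerm, P.reflection_apply_root]

end comb

variable {k : Type u} [Field k] {G : Over (Spec (CommRingCat.of k))} [GrpObj G]
  {D : Red.SplitRed G} {c : Chart G (𝟙 (Spec (CommRingCat.of k)))}
  {vd : D.idx → (Red.Ga (Spec (CommRingCat.of k)) ⟶ G)} {σ : D.idx → D.idx → ℤ}

lemma Const.of_eq {a b e a' b' e' : D.idx} {n : ℤ} (h : Const D c a b e n) (ha : a = a') (hb : b = b')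
    (he : e = e') : Const D c a' b' e' n := by
  subst ha hb he
  exact h

/-- **The structure constant** of `x, y` with `x + y` a root -/
theorem exists_const (H : Chv D D.u vd σ) (Δ : D.P.Base) {x y e : D.idx} (hLI : LI D.P x y)
    (he : D.P.root e = D.P.root x + D.P.root y) :
    ∃ n : ℤ, Const D c x y e n ∧ Kind D.P x y e n := by
  have hred := K803.Split.isReduced D
  obtain ⟨p, q, hpq, hch⟩ := chain hLI
  have hq : (1 : ℤ) ≤ q := by
    have := ((hch 1).mp ⟨e, by rw [he, one_smul, add_comm]⟩).2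
    exact this
  obtain ⟨b, hb⟩ := (hch (-(p : ℤ))).mpr ⟨le_rfl, by omega⟩
  have hbp : D.P.pairing b x = -((p : ℤ) + q) := by
    rw [pairing_of_root hb, ← hpq]; ring
  have hLIb : LI D.P x b := hLI.of_root hb
  have hI : Ind D.P x b := ⟨hLIb, fun h => by
    have h1 : D.P.root b - D.P.root x = D.P.root y + (-(p : ℤ) - 1) • D.P.root x := by
      rw [hb]; module
    rw [h1, hch] at h
    omega⟩
  have hbb : D.P.root y = D.P.root b + (p : ℤ) • D.P.root x := by rw [hb]; module
  obtain ⟨⟨hc1, hc2⟩, hc3, hc4, hc5⟩ := pair_cases hLIb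
  obtain ⟨⟨hd1, hd2⟩, hd3, hd4, hd5⟩ := pair_cases hLIb.symm
  have hinj : ∀ {d d' : D.idx}, D.P.root d = D.P.root d' → d = d' := fun h => D.P.root.injective h
  have hcase : (p = 0 ∧ q = 1) ∨ (p = 0 ∧ q = 2) ∨ (p = 1 ∧ q = 1) ∨ (p = 0 ∧ q = 3) ∨
      (p = 1 ∧ q = 2) ∨ (p = 2 ∧ q = 1) := by omega
  have hs1 := H.sgn b x
  have hs2 := H.sgn x b
  have hs3 := H.sgn x (D.P.reflectionPerm b x)
  have e1 : D.P.pairing x b = -1 → D.P.root (D.P.reflectionPerm b x) = D.P.root x + D.P.root b := by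
    intro h; rw [root_refl, h]; module
  rcases hcase with ⟨rfl, rfl⟩ | ⟨rfl, rfl⟩ | ⟨rfl, rfl⟩ | ⟨rfl, rfl⟩ | ⟨rfl, rfl⟩ | ⟨rfl, rfl⟩
  · -- no roots below, one above
    have hpba : D.P.pairing b x = -1 := by rw [hbp]; rfl
    have hyb : y = b := hinj (by rw [hbb]; simp)
    subst hyb
    have h1 := hc5 hpba
    have hcases : D.P.pairing x y = -1 ∨ D.P.pairing x y = -2 ∨ D.P.pairing x y = -3 := by omega
    rcases hcases with h | h | h
    · refine ⟨_, ((const_a2 (c := c) H Δ hI hpba h).swap).of_eq rfl rfl (hinj ?_), Or.inl (by omega)⟩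
      rw [e1 h, he]
    · refine ⟨_, ((const_b2 (c := c) H Δ hI.symm h hpba).1).of_eq rfl rfl (hinj ?_), Or.inl hs2⟩
      rw [root_refl, hpba, he]; module
    · refine ⟨_, ((const_g2 (c := c) H Δ hI.symm h hpba).1).of_eq rfl rfl (hinj ?_), Or.inl hs2⟩
      rw [root_refl, hpba, he]; module
  · have hpba : D.P.pairing b x = -2 := by rw [hbp]; rfl
    have hpab := hc4 hpba
    have hyb : y = b := hinj (by rw [hbb]; simp)
    subst hyb
    refine ⟨_, ((const_b2 (c := c) H Δ hI hpba hpab).1.swap).of_eq rfl rfl (hinj ?_),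
      Or.inl (by omega)⟩
    rw [e1 hpab, he]
  · have hpba : D.P.pairing b x = -2 := by rw [hbp]; rfl
    have hpab := hc4 hpba
    have hyb : y = D.P.reflectionPerm b x := hinj (by rw [hbb, e1 hpab]; push_cast; module)
    have heb : e = D.P.reflectionPerm x b := hinj (by
      rw [he, hbb, root_refl, hpba]; push_cast; module)
    refine ⟨_, ((const_b2 (c := c) H Δ hI hpba hpab).2.swap).of_eq rfl hyb.symm heb.symm,
      Or.inr (Or.inl ⟨?_, b, hpba, hpab, hyb, heb⟩)⟩
    rcases hs1 with h | h <;> rcases hs2 with h' | h' <;> rw [h, h'] <;> norm_num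
  · have hpba : D.P.pairing b x = -3 := by rw [hbp]; rfl
    have hpab := hc3 hpba
    have hyb : y = b := hinj (by rw [hbb]; simp)
    subst hyb
    refine ⟨_, ((const_g2 (c := c) H Δ hI hpba hpab).1.swap).of_eq rfl rfl (hinj ?_),
      Or.inl (by omega)⟩
    rw [e1 hpab, he]
  · have hpba : D.P.pairing b x = -3 := by rw [hbp]; rfl
    have hpab := hc3 hpba
    have hyb : y = D.P.reflectionPerm b x := hinj (by rw [hbb, e1 hpab]; push_cast; module)
    have h2 : D.P.pairing y x = -1 := by rw [← hpq]; rfl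
    have heb : e = D.P.reflectionPerm x (D.P.reflectionPerm b x) := hinj (by
      rw [he, ← hyb, root_refl, h2]; module)
    refine ⟨_, ((const_g2 (c := c) H Δ hI hpba hpab).2.1.swap).of_eq rfl hyb.symm heb.symm,
      Or.inr (Or.inr (Or.inl ⟨?_, b, hpba, hpab, hyb, heb⟩))⟩
    rcases hs3 with h | h <;> rw [h] <;> norm_num
  · have hpba : D.P.pairing b x = -3 := by rw [hbp]; rfl
    have hpab := hc3 hpba
    have h3 : D.P.pairing (D.P.reflectionPerm b x) x = -1 := by
      have h4 : D.P.root (D.P.reflectionPerm b x) = D.P.root b + (1 : ℤ) • D.P.root x := by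
        rw [e1 hpab]; module
      rw [pairing_of_root h4, hpba]; rfl
    have hyb : y = D.P.reflectionPerm x (D.P.reflectionPerm b x) := hinj (by
      rw [hbb, root_refl x, h3, e1 hpab]; push_cast; module)
    have heb : e = D.P.reflectionPerm x b := hinj (by
      rw [he, hbb, root_refl, hpba]; push_cast; module)
    refine ⟨_, ((const_g2 (c := c) H Δ hI hpba hpab).2.2.swap).of_eq rfl hyb.symm heb.symm,
      Or.inr (Or.inr (Or.inr ⟨?_, b, hpba, hpab, hyb, heb⟩))⟩
    rcases hs1 with h | h <;> rcases hs2 with h' | h' <;> rcases hs3 with h'' | h'' <;>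
      rw [h, h', h''] <;> norm_num

end K214.Brk
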