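import Groth.Agent.ParSch.K214.ParComb2
import Groth.Agent.ParSch.K214.Brk2
import Groth.Agent.ParSch.K803.Pair2

/-!
# The structure constants are non-zero in the base field
-/

set_option autoImplicit false

open RootPairing

namespace K214.Cases

open K221.Prop K221.Form K221.Conn K803.RComb K803.Pair2 K214.Brk K214.ParComb

variable {ι M N : Type*} [AddCommGroup M] [AddCommGroup N] {P : RootPairing ι ℤ M N}

/-- no bad edge: all structure constants are units -/
lemma ne_zero_of_kind {k : Type*} [Field k]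
    (h2 : (2 : k) = 0 → ∀ a b, P.pairing a b = -2 → P.pairing b a = -1 → False)
    (h3 : (3 : k) = 0 → ∀ a b, P.pairing a b = -3 → P.pairing b a = -1 → False)
    (h4 : (2 : k) = 0 → ∀ a b, P.pairing a b = -3 → P.pairing b a = -1 → False)
    {x y e : ι} {n : ℤ} (hk : Kind P x y e n) : (n : k) ≠ 0 := by
  rcases hk with (rfl | rfl) | ⟨rfl | rfl, b, h5, h6, -⟩ | ⟨rfl | rfl, b, h5, h6, -⟩ |
    ⟨rfl | rfl, b, h5, h6, -⟩
  · simp
  · simp
  · intro h; exact h2 (by exact_mod_cast h) b x h5 h6
  · intro h
    exact h2 (by rw [Int.cast_neg, neg_eq_zero] at h; exact_mod_cast h) b x h5 h6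
  · intro h; exact h4 (by exact_mod_cast h) b x h5 h6
  · intro h
    exact h4 (by rw [Int.cast_neg, neg_eq_zero] at h; exact_mod_cast h) b x h5 h6
  · intro h; exact h3 (by exact_mod_cast h) b x h5 h6
  · intro h
    exact h3 (by rw [Int.cast_neg, neg_eq_zero] at h; exact_mod_cast h) b x h5 h6

variable [Fintype ι] [P.IsReduced]

/-- the two root lengths of an indecomposable root system with a multiple edge -/
lemma two_of_edge {m : ℤ} (hirr : Irr P) (hm : m = 2 ∨ m = 3) {a b : ι} (hab : P.pairing a b = -m)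
    (hba : P.pairing b a = -1) : Two P m (len P b) where
  hm := hm
  lens e := by
    have h1 := len_swap (P := P) a b
    rw [hab, hba] at h1
    rcases conj_or hirr hm hab hba e with h | h
    · right
      have h2 := len_conj h
      linarith
    · left
      exact (len_conj h).symm

omit [P.IsReduced] in
/-- the structure constants in the case of a bad edge, short + short = long excluded -/
lemma ne_zero_of_two {k : Type*} [Field k] {m ℓ : ℤ} (T : Two P m ℓ) (hmk : (m : k) = 0)
    {x y e : ι} {n : ℤ} (hk : Kind P x y e n)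
    (hs : ¬ (len P x = ℓ ∧ len P y = ℓ ∧ len P e = m * ℓ)) : (n : k) ≠ 0 := by
  have h0 := T.pos x
  have key : ∀ b : ι, ∀ r : ℤ, (r = 2 ∨ r = 3) → P.pairing b x = -r → P.pairing x b = -1 →
      m = r ∧ len P x = ℓ ∧ len P b = m * ℓ := by
    intro b r hr h1 h2
    have h3 := len_swap (P := P) b x
    rw [h1, h2] at h3
    have h4 : len P b = r * len P x := by linarith
    rcases T.lens x with h5 | h5 <;> rcases T.lens b with h6 | h6 <;> rw [h5, h6] at h4 <;>
      rcases T.hm with rfl | rfl <;> rcases hr with rfl | rfl <;> omega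
  have h23 : (m = 2 ∧ (3 : k) ≠ 0) ∨ (m = 3 ∧ (2 : k) ≠ 0) := by
    rcases T.hm with rfl | rfl
    · left
      refine ⟨rfl, fun h => one_ne_zero (α := k) ?_⟩
      have h7 : (2 : k) = 0 := by exact_mod_cast hmk
      linear_combination h - h7
    · right
      refine ⟨rfl, fun h => one_ne_zero (α := k) ?_⟩
      have h7 : (3 : k) = 0 := by exact_mod_cast hmk
      linear_combination h7 - h
  rcases hk with (rfl | rfl) | ⟨hn, b, h5, h6, hy, he⟩ | ⟨hn, b, h5, h6, hy, he⟩ |
    ⟨hn, b, h5, h6, hy, he⟩
  · simp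
  · simp
  · exfalso
    obtain ⟨h7, h8, h9⟩ := key b 2 (Or.inl rfl) h5 h6
    exact hs ⟨h8, by rw [hy, len_refl, h8], by rw [he, len_refl, h9]⟩
  · obtain ⟨h7, h8, h9⟩ := key b 3 (Or.inr rfl) h5 h6
    have h10 : (2 : k) ≠ 0 := by
      rcases h23 with h | h
      · omega
      · exact h.2
    rcases hn with rfl | rfl
    · exact_mod_cast h10
    · intro h
      rw [Int.cast_neg, neg_eq_zero] at h
      exact h10 (by exact_mod_cast h)
  · exfalso
    obtain ⟨h7, h8, h9⟩ := key b 3 (Or.inr rfl) h5 h6
    exact hs ⟨h8, by rw [hy, len_refl, len_refl, h8], by rw [he, len_refl, h9]⟩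

end K214.Cases
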