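import Groth.Agent.ParSch.K214.RedPart

/-!
# A tangent root vector outside the reduced part
-/

set_option autoImplicit false
universe u

open CategoryTheory AlgebraicGeometry
open scoped MonObj GrpObj

namespace K214.ExTan

open Groth.Agent.Sga3B Groth.Agent.Sga3B.Cell Groth.Agent.Sga3B.PinMod Groth.Agent.Sga3B.Parab
open Groth.Agent.Sga3B.Parab.DynInter998
open K803.SubPt K803.Lie K803.HtOne K844.BorSet K214.RedPart

variable {k : Type u} [Field k] {G : Over (Spec (CommRingCat.of k))} [GrpObj G]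
  {D : Red.SplitRed G} {c : Chart G (𝟙 (Spec (CommRingCat.of k)))}

lemma ptZ_torus (x : Module.Dual ℤ D.M) {X : Over (Spec (CommRingCat.of k))} (t : X ⟶ D.T) :
    PtZ (Par.coch D x) (t ≫ D.i) := by
  intro C _ c y
  have := Groth.Agent.RedSub.H634.TorusCent.orbConst_torus D x (y ≫ t)
  rwa [Category.assoc] at this

lemma exists_pt_torus (D : Red.SplitRed G) {B : Type u} [CommRing B] [Algebra k B] (t : TPt D.M B) :
    ∃ y : tB (𝟙 (Spec (CommRingCat.of k))) B ⟶ D.T, y ≫ D.i = c.pts B ((c.datum D).i B t) := by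
  refine ⟨DSPts.dsEquiv (tB (𝟙 (Spec (CommRingCat.of k))) B) D.M (chΓ (𝟙 _) t) ≫
      Chart.splitInv D, ?_⟩
  rw [Category.assoc, ← Chart.j_eq, ← c.pts_i]

variable {P Q : Over (Spec (CommRingCat.of k))} [GrpObj P] [GrpObj Q] {iP : P ⟶ G} {j : Q ⟶ G}
  [IsMonHom iP] [IsMonHom j] [IsClosedImmersion iP.left] [IsClosedImmersion j.left]
  {x : Module.Dual ℤ D.M}

omit [IsClosedImmersion j.left] in
lemma torus_mem (hj : IsDynP (Par.coch D x) j) {B : Type u} [CommRing B] [Algebra k B]
    (t : TPt D.M B) : (c.datum D).i B t ∈ sub c j B := by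
  rw [mem_sub_dynP c hj]
  obtain ⟨y, hy⟩ := exists_pt_torus (c := c) D t
  rw [← hy]
  exact ptP_torus D x y

omit [IsClosedImmersion j.left] in
lemma root_mem (hj : IsDynP (Par.coch D x) j) {a : D.idx} (ha : 0 ≤ x (D.P.root a)) {B : Type u}
    [CommRing B] [Algebra k B] (y : B) : (c.datum D).uu a B y ∈ sub c j B := by
  rw [mem_sub_dynP c hj, c.pts_uu]
  exact (ptP_u D a ha).comp _

/-- **A root vector outside the reduced part.** -/
theorem exists_tan [IsReduced Q.left]
    (hQP : Set.range j.left.base = Set.range iP.left.base) (hj : IsDynP (Par.coch D x) j)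
    {I : Ideal c.A} (hI : Cut I (fun B _ _ => sub c iP B)) (hred : ¬ IsReduced P.left) :
    ∃ a, x (D.P.root a) < 0 ∧ Tan D I a := by
  classical
  have hGa : IsAffineHom G.hom := D.reductive.1
  have hGs : Smooth G.hom := D.reductive.2.1
  have hDr : D.P.IsReduced := K803.Split.isReduced D
  have hjmono : Mono j := Over.mono_of_mono_left j
  have himono : Mono iP := Over.mono_of_mono_left iP
  obtain ⟨f, hf⟩ := K214.Setup.exists_lift iP j hQP.le
  have hle : ∀ (B : Type u) [CommRing B] [Algebra k B], sub c j B ≤ sub c iP B :=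
    (exists_hom_iff c j iP).1 ⟨f, hf⟩
  obtain ⟨U, _, v, hv, hvcl⟩ := DynExist998.exists_isDynU (negLam (Par.coch D x))
  have hvm := hv.isMonHom
  obtain ⟨J, hJ⟩ := exists_ideal c v
  by_contra hno
  push Not at hno
  apply hred
  let S' : ∀ (B : Type u) [CommRing B] [Algebra k B], Subgroup (Pt k c.A B) :=
    fun B _ _ => sub c iP B ⊓ sub c v B
  have hS' : ∀ (B : Type u) [CommRing B] [Algebra k B] (g : Pt k c.A B),
      g ∈ S' B ↔ ∀ f ∈ I ⊔ J, g.hom f = 0 := by
    intro B _ _ g
    constructor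
    · intro hg f hf
      have h1 : g ∈ sub c iP B := hg.1
      have h2 : g ∈ sub c v B := hg.2
      obtain ⟨f1, hf1, f2, hf2, rfl⟩ := Submodule.mem_sup.1 hf
      rw [map_add, (hI B g).1 h1 f1 hf1, (hJ B g).1 h2 f2 hf2, add_zero]
    · intro h
      exact ⟨(hI B g).2 fun f hf => h f (Ideal.mem_sup_left hf),
        (hJ B g).2 fun f hf => h f (Ideal.mem_sup_right hf)⟩
  have key : ∀ (B : Type u) [CommRing B] [Algebra k B] (g : Pt k c.A B), g ∈ S' B → g = 1 := by
    obtain ⟨b⟩ := BaseZ.nonempty_base D.P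
    obtain ⟨E, hE⟩ := Groth.Agent.Agf.H613.TwGlue.exists_pinCell D b c
    have hsm : Algebra.Smooth k c.A := ChartFib.smooth_of_isPullback c.isPullback
    have hnoe : IsNoetherianRing c.A := Algebra.FiniteType.isNoetherianRing k c.A
    have hT' : ∀ (B : Type u) [CommRing B] [Algebra k B] (t : TPt D.M B) (g : Pt k c.A B),
        g ∈ S' B → E.i B t * g * (E.i B t)⁻¹ ∈ S' B := by
      intro B _ _ t g hg
      have h1 : g ∈ sub c iP B := hg.1
      have h2 : g ∈ sub c v B := hg.2
      rw [hE]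
      have h3 := hle B (torus_mem (c := c) hj t)
      have h7 : (c.datum D).i B t * g * ((c.datum D).i B t)⁻¹ ∈ sub c iP B :=
        mul_mem (mul_mem h3 h1) (inv_mem h3)
      refine ⟨h7, ?_⟩
      obtain ⟨y, hy⟩ := exists_pt_torus (c := c) D t
      have h4 : PtP (negLam (Par.coch D x)) (y ≫ D.i) := ((ptP_and_iff _).2 (ptZ_torus x y)).2
      have h5 : PtU (negLam (Par.coch D x)) (c.pts B g) := (mem_sub_dynU c hv).1 h2
      refine (mem_sub_dynU c hv).2 ?_
      rw [map_mul, map_mul, map_inv, ← hy]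
      intro C _ c' z
      have h6 := (h5 C c' z).conj (h4 C c' z)
      rwa [MonObj.comp_mul, MonObj.comp_mul, GrpObj.comp_inv]
    have hnil := isNilpotent_of (k := k) (I ⊔ J) (by
      intro B _ _ _ g hg
      have h0 := (hS' B g).2 hg
      have h1 : g ∈ sub c iP B := h0.1
      have h2 : g ∈ sub c v B := h0.2
      exact eq_one_of_mem c hj hv (mem_of_reduced c hQP.ge h1) h2)
    rcases exists_tan_or_torus E S' hS' hT' hnil with ⟨a, ha⟩ | h
    · exfalso
      obtain ⟨r, hr⟩ := tan_pin E hE a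
      have h1 : ∀ f ∈ I ⊔ J, tan (c.datum D) a f = 0 := by
        intro f hf
        have h1 := ha f hf
        rw [hr] at h1
        exact (mul_eq_zero.mp h1).resolve_right r.ne_zero
      have h2 : Tan D I a := fun f hf => h1 f (Ideal.mem_sup_left hf)
      rcases lt_or_ge (x (D.P.root a)) 0 with h3 | h3
      · exact hno a h3 h2
      · have hε : (DualNumber.eps : DualNumber k) * DualNumber.eps = 0 := DualNumber.eps_mul_eps
        have h4 : (c.datum D).uu a (DualNumber k) DualNumber.eps ∈ sub c v (DualNumber k) :=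
          mem_of_tan (S := fun B _ _ => sub c v B) hJ (fun f hf => h1 f (Ideal.mem_sup_right hf)) hε
        have h5 := eq_one_of_mem c hj hv (root_mem (c := c) hj h3 _) h4
        rw [← (c.datum D).uu_zero a] at h5
        have h6 := congrArg TrivSqZeroExt.snd ((c.datum D).uu_inj a h5)
        simp at h6
    · intro B _ _ g hg
      obtain ⟨t, rfl⟩ := h B g hg
      refine eq_one_of_mem c hj hv ?_ hg.2
      rw [hE]
      exact torus_mem hj t
  refine isReduced_of hQP hj hv ?_
  intro X a b hab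
  apply AffYoneda.hom_ext
  intro B s z
  obtain ⟨ρ, rfl⟩ := exists_algebra B s
  let _ : Algebra k B := ρ.hom.toAlgebra
  have h1 : (c.pts B).symm (z ≫ a ≫ v) = 1 := by
    refine key B _ ⟨⟨z ≫ b, ?_⟩, ⟨z ≫ a, ?_⟩⟩
    · rw [MulEquiv.apply_symm_apply, Category.assoc, hab]
    · rw [MulEquiv.apply_symm_apply, Category.assoc]
  rw [MonObj.comp_one]
  exact (c.pts B).symm.injective (h1.trans (map_one _).symm)

end K214.ExTan
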