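import Groth.Agent.RedSub.K194.TUAll
import Groth.Agent.Par.K546.OscK
import Groth.Agent.GaDual.K770.Pts
import Groth.Agent.ParSch.K803.Nn
import Groth.Agent.ParSch.K803.Gen
import Groth.Agent.ParSch.K214.ExTan
import Groth.Agent.S3992
import Groth.Agent.S3036
import Groth.Agent.AGF.K493.URad
import Groth.Agent.PRed.K540.NoTor

/-!
# Centralizers of subgroups of a maximal torus: smooth connected normal unipotent subgroups are trivial
-/

set_option autoImplicit false
universe u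

open CategoryTheory AlgebraicGeometry MonoidalCategory CartesianMonoidalCategory
open scoped MonObj GrpObj

namespace K214.CentRad

open Groth.Agent.Sga3B Groth.Agent.Sga3B.Cell Groth.Agent.Sga3B.PinMod Groth.Agent.Sga3B.Parab
open Groth.Agent.Sga3B.DSPts Groth.Agent.Sga3B.GaPts Groth.Agent.Sga3B.Par
open K803.SubPt K803.Gen K803.Split K803.Nn

variable {k : Type u} [Field k] {G : Over (Spec (CommRingCat.of k))} [GrpObj G]

/-- a homomorphism from `𝔾_a` to a split torus is trivial -/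
theorem ga_torus (D : Red.SplitRed G) (f : Red.Ga (Spec (CommRingCat.of k)) ⟶ D.T) [IsMonHom f] :
    f = 1 := by
  have h1 : IsMonHom D.split.hom.hom.hom := D.split.hom.hom.isMonHom_hom
  have hi : Mono D.split.hom.hom.hom := ⟨fun a b h => by
    have := congrArg (· ≫ D.split.inv.hom.hom) h
    simpa [Category.assoc, split_hom_inv] using this⟩
  have h0 : (1 : Red.Ga (Spec (CommRingCat.of k)) ⟶ D.T) ≫ D.split.hom.hom.hom = 1 :=
    MonObj.one_comp _
  rw [← cancel_mono D.split.hom.hom.hom, h0]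
  apply (dsEquiv (S := Spec (CommRingCat.of k)) _ D.M).symm.injective
  rw [map_one]
  refine MonoidHom.ext fun m => ?_
  have h2 : IsMonHom (Red.chi (Spec (CommRingCat.of k)) m.toAdd) := isMonHom_DSmap _
  have h3 := K770.Pts.hom_eq_one (f ≫ D.split.hom.hom.hom ≫ Red.chi (Spec (CommRingCat.of k)) m.toAdd)
  have h4 := congrArg Red.gmFn h3
  rw [← Category.assoc, gmFn_chi] at h4
  have h5 : Red.gmFn (1 : Red.Ga (Spec (CommRingCat.of k)) ⟶ Red.Gm (Spec (CommRingCat.of k))) = 1 :=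
    K770.Pts.gmFn_one
  rw [h5] at h4
  exact h4

variable {D : Red.SplitRed G} {c : Chart G (𝟙 (Spec (CommRingCat.of k)))}

/-- opposite root groups in a subgroup not meeting the torus -/
theorem false_of_pair [Infinite k] {U : Over (Spec (CommRingCat.of k))} [GrpObj U] (j : U ⟶ G) [IsMonHom j]
    [IsClosedImmersion j.left]
    (htriv : ∀ (X : Over (Spec (CommRingCat.of k))) (y : X ⟶ U) (x : X ⟶ D.T), y ≫ j = x ≫ D.i → y = 1)
    (a : D.idx) (h : ∀ (B : Type u) [CommRing B] [Algebra k B] (x : B),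
      (c.datum D).uu a B x ∈ sub c j B)
    (h' : ∀ (B : Type u) [CommRing B] [Algebra k B] (x : B),
      (c.datum D).uu (D.P.reflectionPerm a a) B x ∈ sub c j B) : False := by
  have hred := isReduced D
  obtain ⟨b, hb⟩ := exists_base_mem D.P a
  obtain ⟨E, hE⟩ := Groth.Agent.Agf.H613.TwGlue.exists_pinCell D b c
  obtain ⟨r, hr⟩ := exists_scale E hE a
  obtain ⟨r', hr'⟩ := exists_scale E hE (D.P.reflectionPerm a a)
  let F : ClFun k c.A := ⟨fun B _ _ => sub c j B, fun φ _ hg => map_mem c φ hg,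
    fun hφ _ hg => mem_of_map_mem c hφ hg⟩
  obtain ⟨v, hv⟩ : ∃ v : kˣ, (v : k) * v ≠ 1 := by
    by_contra hno
    push Not at hno
    have hfin : Set.Finite ({0, 1, -1} : Set k) := by simp
    obtain ⟨w, hw⟩ := hfin.exists_notMem
    simp only [Set.mem_insert_iff, Set.mem_singleton_iff, not_or] at hw
    have h1 := hno (Units.mk0 w hw.1)
    rw [Units.val_mk0] at h1
    rcases mul_self_eq_one_iff.1 h1 with h2 | h2
    · exact hw.2.1 h2
    · exact hw.2.2 h2
  have h1 := cow_mem E F a hb (fun B _ _ x => by rw [hr]; exact h B _)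
    (fun B _ _ x => by rw [hr']; exact h' B _) (B := k) v
  obtain ⟨y, hy⟩ := h1
  rw [hE] at hy
  obtain ⟨x, hx⟩ := K214.ExTan.exists_pt_torus (c := c) D (TPt.cow (D.P.coroot a) v)
  have h2 := htriv _ y x (hy.trans hx.symm)
  have h2' : y ≫ j = 1 := by rw [h2, MonObj.one_comp]
  have h3 : (c.datum D).i k (TPt.cow (D.P.coroot a) v) = 1 :=
    (c.pts k).injective (hy.symm.trans (h2'.trans (map_one _).symm))
  have h4 := (c.datum D).i_inj _ (h3.trans (map_one _).symm)
  have h5 := congrArg (TPt.ch (D.P.root a)) h4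
  have h6 : D.P.coroot a (D.P.root a) = 2 := by
    have := D.P.root_coroot_two a
    rw [D.pairing_eq] at this
    exact this
  have h7 : TPt.ch (D.P.root a) (TPt.cow (D.P.coroot a) v) = (v : k) * v := by
    rw [TPt.ch_cow, h6, zpow_two, Units.val_mul]
  exact hv (h7.symm.trans h5)

variable {M Z U : Over (Spec (CommRingCat.of k))} [GrpObj M] [GrpObj Z] [GrpObj U]

omit [GrpObj M] in
/-- the torus is contained in the centralizer -/
lemma exists_torus (m : M ⟶ D.T) (z : Z ⟶ G) (hZ : Red.IsCentralizerOf (m ≫ D.i) z) :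
    ∃ t : D.T ⟶ Z, t ≫ z = D.i := by
  rw [hZ.2.2]
  intro X' x h
  rw [← Category.assoc h, ← MonObj.mul_comp, ← MonObj.mul_comp, BorRP478.torus_comm]

omit [GrpObj M] in
/-- the character of a root on the points of `M` -/
lemma exists_root_iff (m : M ⟶ D.T) (z : Z ⟶ G) (hZ : Red.IsCentralizerOf (m ≫ D.i) z) (a : D.idx) :
    (∃ v : Red.Ga (Spec (CommRingCat.of k)) ⟶ Z, v ≫ z = D.u a) ↔
      ∀ (X : Over (Spec (CommRingCat.of k))) (h : X ⟶ M),
        dsChar ((h ≫ m) ≫ D.split.hom.hom.hom) (Multiplicative.ofAdd (D.P.root a)) = 1 := by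
  have hmono := (D.rootHom a).2.1
  have hmono' : Mono (D.u a) := Over.mono_of_mono_left _
  constructor
  · intro hv X h
    rw [hZ.2.2] at hv
    have h1 := hv X (gaPt X 1) h
    have h2 := Par.rel_pt D a (h ≫ m) (1 : Γ(X.left, ⊤))
    rw [Category.assoc h m D.i] at h2
    have h3 : (h ≫ m ≫ D.i) * (gaPt X 1 ≫ D.u a) * (h ≫ m ≫ D.i)⁻¹ = gaPt X 1 ≫ D.u a := by
      rw [← h1]
      group
    rw [h3, cancel_mono] at h2
    have h4 := congrArg Red.gaFn h2
    rw [gaFn_gaPt, gaFn_gaPt, _root_.mul_one] at h4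
    exact h4.symm
  · intro hM
    rw [hZ.2.2]
    intro X x h
    have h2 := Par.rel_pt D a (h ≫ m) (Red.gaFn x)
    rw [hM, _root_.one_mul, gaPt_gaFn, Category.assoc h m D.i] at h2
    calc (x ≫ D.u a) * (h ≫ m ≫ D.i) =
        ((h ≫ m ≫ D.i) * (x ≫ D.u a) * (h ≫ m ≫ D.i)⁻¹) * (h ≫ m ≫ D.i) := by rw [h2]
      _ = (h ≫ m ≫ D.i) * (x ≫ D.u a) := by group

omit [GrpObj M] in
lemma exists_root_neg (m : M ⟶ D.T) (z : Z ⟶ G) (hZ : Red.IsCentralizerOf (m ≫ D.i) z) {a : D.idx}
    (h : ∃ v : Red.Ga (Spec (CommRingCat.of k)) ⟶ Z, v ≫ z = D.u a) :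
    ∃ v : Red.Ga (Spec (CommRingCat.of k)) ⟶ Z, v ≫ z = D.u (D.P.reflectionPerm a a) := by
  rw [exists_root_iff m z hZ] at h ⊢
  intro X y
  have h1 : D.P.root (D.P.reflectionPerm a a) = - D.P.root a := by
    rw [RootPairing.root_reflectionPerm, RootPairing.reflection_apply_self]
  have h2 := map_mul (dsChar ((y ≫ m) ≫ D.split.hom.hom.hom))
    (Multiplicative.ofAdd (D.P.root (D.P.reflectionPerm a a))) (Multiplicative.ofAdd (D.P.root a))
  rw [← ofAdd_add, h1, neg_add_cancel, h X y, ofAdd_zero, map_one, _root_.mul_one] at h2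
  rw [h1]
  exact h2.symm

omit [GrpObj M] in
/-- **The theorem** for the torus of a splitting -/
theorem isTrivial [IsAlgClosed k] (m : M ⟶ D.T) (z : Z ⟶ G) (hZ : Red.IsCentralizerOf (m ≫ D.i) z)
    (u : U ⟶ Z) [IsMonHom u] (hUcl : IsClosedImmersion u.left) [Smooth U.hom]
    [ConnectedSpace U.left] (hUn : AlgGrp.IsNormalHom u) (hUt : Red.HasNoSubtorus k U) :
    Red.IsTrivialGrp U := by
  have hzm := hZ.1
  have hzmono := hZ.2.1
  have humono : Mono u := Over.mono_of_mono_left u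
  have hjm : IsMonHom (u ≫ z) := inferInstance
  have hjmono : Mono (u ≫ z) := inferInstance
  have hGa : IsAffineHom G.hom := D.reductive.1
  have hGs : Smooth G.hom := D.reductive.2.1
  have hUi : GeometricallyIrreducible U.hom := K803.GenBy.geomIrr
  have hUq : QuasiCompact U.hom := Groth.Agent.Sga3C.GrpSep.quasiCompact U
  have hjcl : IsClosedImmersion (u ≫ z).left := by
    have h1 : IsSeparated G.hom := inferInstance
    have h2 : QuasiCompact ((u ≫ z).left ≫ G.hom) := by rw [Over.w (u ≫ z)]; infer_instance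
    have h3 : QuasiCompact (u ≫ z).left := QuasiCompact.of_comp (u ≫ z).left G.hom
    exact Groth.Agent.S3036.result k U G (u ≫ z)
  obtain ⟨tz, htz⟩ := exists_torus m z hZ
  have hnorm : ∀ (X : Over (Spec (CommRingCat.of k))) (x : X ⟶ D.T) (y : X ⟶ U), ∃ y' : X ⟶ U,
      (x ≫ D.i) * (y ≫ u ≫ z) * (x ≫ D.i)⁻¹ = y' ≫ u ≫ z := by
    intro X x y
    obtain ⟨y', hy'⟩ := hUn X (x ≫ tz) y
    refine ⟨y', ?_⟩
    rw [← Category.assoc y', ← hy', MonObj.mul_comp, MonObj.mul_comp, GrpObj.inv_comp, Category.assoc,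
      htz, Category.assoc]
  have hfib : ∀ s : (Spec (CommRingCat.of k)), ConnectedSpace ↥(Red.geomFibre s U).left ∧
      Red.HasNoSubtorus (AlgebraicClosure ((Spec (CommRingCat.of k)).residueField s))
        (Red.geomFibre s U) := fun s =>
    ⟨(K493.URad.connectedSpace_geomFibre_iff s).2 inferInstance,
      (K493.URad.hasNoSubtorus_geomFibre_iff s).2 hUt⟩
  have hsub : RedSub.IsSubgrp (u ≫ z) := ⟨hjm, inferInstance⟩
  have htriv := Groth.Agent.S3992.result D.reductive D.i D.maximalTorus (u ≫ z) hsub hfib hnorm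
  obtain ⟨H, _, h, t, w, hH, -, ht, hw, htm, hwm, hrad, hiso⟩ :=
    K194.TUAll.exists_all D.reductive D.i D.maximalTorus (u ≫ z) hsub hfib hnorm
  have hhm : IsMonHom h := hH.1.1
  have hhi : IsImmersion h.left := hH.1.2
  have hhmono : Mono h := Over.mono_of_mono_left h
  have hHs : Smooth H.hom := hH.2.1
  have hwmono : Mono w := by
    have : Mono (w ≫ h) := by rw [hw]; infer_instance
    exact mono_of_mono w h
  have hsemi : LeviProj.IsSemi t w := ⟨htm, hwm, hwmono, hrad.2.2.1, hiso⟩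
  obtain ⟨c⟩ := exists_chart G (𝟙 (Spec (CommRingCat.of k)))
  -- no root groups in `H`
  have hno : ∀ a, ¬ ∃ v : Red.Ga (Spec (CommRingCat.of k)) ⟶ H, v ≫ h = D.u a := by
    rintro a ⟨v, hv⟩
    have hum : IsMonHom (D.u a) := (D.rootHom a).1
    have hvm : IsMonHom v := by
      have : IsMonHom (v ≫ h) := by rw [hv]; exact hum
      exact DynLevi998.isMonHom_of_comp_mono (p := h)
    have hpr : v ≫ LeviProj.prL hsemi = 1 := ga_torus D _
    obtain ⟨y, hy⟩ := LeviProj.exists_of_prL_eq_one hsemi v hpr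
    have hyj : y ≫ u ≫ z = D.u a := by rw [← hw, ← Category.assoc, hy, hv]
    have h1 := (exists_ga_iff c D a (u ≫ z)).1 ⟨y, hyj⟩
    obtain ⟨v', hv'⟩ := exists_root_neg m z hZ (a := a) ⟨y ≫ u, by rw [Category.assoc, hyj]⟩
    have h2 := (exists_ga_iff c D (D.P.reflectionPerm a a) z).1 ⟨v', hv'⟩
    have hle : ∀ (B : Type u) [CommRing B] [Algebra k B], sub c (u ≫ z) B ≤ sub c z B := by
      rintro B _ _ g ⟨x, hx⟩
      exact ⟨x ≫ u, by rw [Category.assoc, hx]⟩
    have hconj : ∀ (B : Type u) [CommRing B] [Algebra k B] (g g' : Pt k c.A B), g ∈ sub c z B →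
        g' ∈ sub c (u ≫ z) B → g * g' * g⁻¹ ∈ sub c (u ≫ z) B := by
      rintro B _ _ g g' ⟨x, hx⟩ ⟨x', hx'⟩
      obtain ⟨y', hy'⟩ := hUn _ x x'
      refine ⟨y', ?_⟩
      rw [← Category.assoc y', ← hy', MonObj.mul_comp, MonObj.mul_comp, GrpObj.inv_comp, hx,
        Category.assoc, hx', map_mul, map_mul, map_inv]
    obtain ⟨r, r', hnn⟩ := exists_nn D c a
    obtain ⟨s, hs⟩ := hnn a
    refine false_of_pair (u ≫ z) (fun X y x hxy => htriv X y x hxy) a h1 ?_
    intro B _ _ x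
    have h3 : nn D c a r r' B ∈ sub c z B :=
      mul_mem (mul_mem (hle B (h1 B _)) (h2 B _)) (hle B (h1 B _))
    have h4 := hconj B _ _ h3 (h1 B (algebraMap k B ((s⁻¹ : kˣ) : k) * x))
    rw [hs, unit_cancel] at h4
    exact h4
  obtain ⟨w', hw'⟩ := Groth.Agent.RedSub.H635.Uniq.exists_le D h hH.2.2.2.1 t ht D.i (𝟙 _)
    (Category.id_comp _) (fun a ha => absurd ha (hno a))
  have h5 : (𝟙 U : U ⟶ U) = 1 := by
    apply htriv U (𝟙 U) (w ≫ w')
    rw [Category.id_comp, Category.assoc, hw', hw]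
  have h6 : IsIso (toUnit U) := ⟨1, by rw [MonObj.comp_one, h5], Subsingleton.elim _ _⟩
  exact K540.NoTor.isTrivialGrp_of_isIso_toUnit

end K214.CentRad
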