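import Groth.Agent.ParSch.K214.VStab

/-!
# Conjugates of a root vector by all points

Membership in a closed subgroup functor of the conjugates of `u_b(ε)` by all points can be tested on products
of two points of the big cell. Consequences: if all root vectors, resp. in the edge case all short root
vectors are tangent to a closed subgroup functor containing the torus, then it contains all conjugates of
a short root vector.
-/

set_option autoImplicit false
universe u
open CategoryTheory AlgebraicGeometry Polynomial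

namespace K214.ConjAll

open Groth.Agent.Sga3B Groth.Agent.Sga3B.Cell Groth.Agent.Sga3B.Cell.Datum
  Groth.Agent.Sga3B.PinMod K214.ChevDual K214.ChevPts K214.ChainComb K214.PairComb K214.Brk
  K214.ParComb K214.Coord K214.LongZero K214.VStab K803.HtOne K803.Lie K803.RComb K803.Str
  K803.Split K213.RkOneR Groth.Agent.Sga3B.PtDescent

variable {k : Type u} [Field k]

/-- the homomorphism `B[ε] ⟶ C` -/
noncomputable def dl {B C : Type u} [CommRing B] [Algebra k B] [CommRing C] [Algebra k C]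
    (φ : B →ₐ[k] C) (e : C) (he : e * e = 0) : DualNumber B →ₐ[k] C :=
  DualNumber.lift ⟨(φ, e), he, fun _ => Commute.all _ _⟩

lemma dl_eps {B C : Type u} [CommRing B] [Algebra k B] [CommRing C] [Algebra k C]
    (φ : B →ₐ[k] C) (e : C) (he : e * e = 0) : dl φ e he DualNumber.eps = e :=
  DualNumber.lift_apply_eps _

lemma dl_comp_inl {B C : Type u} [CommRing B] [Algebra k B] [CommRing C] [Algebra k C]
    (φ : B →ₐ[k] C) (e : C) (he : e * e = 0) :
    (dl φ e he).comp (TrivSqZeroExt.inlAlgHom k B B) = φ :=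
  DualNumber.lift_comp_inlHom _

lemma dl_injective {B C : Type u} [CommRing B] [Algebra k B] [CommRing C] [Algebra k C]
    (φ : B →ₐ[k] C) (hφ : Function.Injective φ) :
    Function.Injective (dl ((TrivSqZeroExt.inlAlgHom k C C).comp φ) DualNumber.eps
      DualNumber.eps_mul_eps) := by
  rw [injective_iff_map_eq_zero]
  intro z hz
  have h1 : dl ((TrivSqZeroExt.inlAlgHom k C C).comp φ) DualNumber.eps
      DualNumber.eps_mul_eps z = TrivSqZeroExt.inl (φ z.fst) +
        TrivSqZeroExt.inl (φ z.snd) * DualNumber.eps := rfl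
  rw [h1] at hz
  have h2 := congrArg TrivSqZeroExt.fst hz
  have h3 := congrArg TrivSqZeroExt.snd hz
  have e2 : φ z.fst = 0 := by simpa using h2
  have e3 : φ z.snd = 0 := by simpa using h3
  have f2 := hφ (e2.trans (map_zero φ).symm)
  have f3 := hφ (e3.trans (map_zero φ).symm)
  exact TrivSqZeroExt.ext f2 f3

variable {G : Over (Spec (CommRingCat.of k))} [GrpObj G]
  {D : Red.SplitRed G} {c : Chart G (𝟙 (Spec (CommRingCat.of k)))}
  {vd : D.idx → (Red.Ga (Spec (CommRingCat.of k)) ⟶ G)} {σ : D.idx → D.idx → ℤ}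
  {I : Ideal c.A} {S : ∀ (B : Type u) [CommRing B] [Algebra k B], Subgroup (Pt k c.A B)}

/-- testing on products of two points of the big cell -/
theorem conj_mem_of_cells (hS : Cut I S) {Δ : D.P.Base} (E : PinCell D.P Δ k c.A) (b : D.idx)
    (h : ∀ (B : Type u) [CommRing B] [Algebra k B] (ε : B), ε * ε = 0 →
      ∀ (x : D.idx → B) (t : TPt D.M B) (x' : D.idx → B) (t' : TPt D.M B),
        (E.cell x t * E.cell x' t') * (c.datum D).uu b B ε * (E.cell x t * E.cell x' t')⁻¹ ∈ S B)
    (B : Type u) [CommRing B] [Algebra k B] (ε : B) (hε : ε * ε = 0) (g : Pt k c.A B) :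
    g * (c.datum D).uu b B ε * g⁻¹ ∈ S B := by
  obtain ⟨T, _, _, _, _, _, x, t, x', t', hu⟩ := PinCover.exists_cover E
  set ψ := IsScalarTower.toAlgHom k c.A T with hψ
  have hψi : Function.Injective ψ := FaithfulSMul.algebraMap_injective c.A T
  let ι : T →ₐ[k] DualNumber T := TrivSqZeroExt.inlAlgHom k T T
  let ι' : c.A →ₐ[k] DualNumber c.A := TrivSqZeroExt.inlAlgHom k c.A c.A
  have h1 := h (DualNumber T) DualNumber.eps DualNumber.eps_mul_eps (fun a => ι (x a))
    (TPt.map ι t) (fun a => ι (x' a)) (TPt.map ι t')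
  rw [← E.cell_nat, ← E.cell_nat, ← Pt.map_mul, ← hu] at h1
  -- over `A[ε]`
  have h2 : Pt.map ι' (univ k c.A) * (c.datum D).uu b (DualNumber c.A) DualNumber.eps *
      (Pt.map ι' (univ k c.A))⁻¹ ∈ S (DualNumber c.A) := by
    rw [hS]
    intro f hf
    apply dl_injective ψ hψi
    rw [map_zero, ← Pt.map_hom_apply]
    have e1 : Pt.map (dl (ι.comp ψ) DualNumber.eps DualNumber.eps_mul_eps)
        (Pt.map ι' (univ k c.A)) = Pt.map ι (Pt.mk ψ) := by
      rw [Pt.map_map, dl_comp_inl]
      rfl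
    have e2 : Pt.map (dl (ι.comp ψ) DualNumber.eps DualNumber.eps_mul_eps)
        (Pt.map ι' (univ k c.A) * (c.datum D).uu b (DualNumber c.A) DualNumber.eps *
      (Pt.map ι' (univ k c.A))⁻¹) =
      Pt.map ι (Pt.mk ψ) * (c.datum D).uu b (DualNumber T) DualNumber.eps *
        (Pt.map ι (Pt.mk ψ))⁻¹ := by
      rw [Pt.map_mul, Pt.map_mul, Pt.map_inv, e1, (c.datum D).uu_nat, dl_eps]
    exact (congrArg (fun g : Pt k c.A (DualNumber T) => g.hom f) e2).trans
      ((hS _ _).mp h1 f hf)
  have h3 := Cut.map hS (dl g.hom ε hε) h2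
  have e1 : Pt.map (dl g.hom ε hε) (Pt.map ι' (univ k c.A)) = g := by
    rw [Pt.map_map, dl_comp_inl]
    exact map_univ g
  rw [Pt.map_mul, Pt.map_mul, Pt.map_inv, e1, (c.datum D).uu_nat, dl_eps] at h3
  exact h3

/-- the torus and infinitesimal points of the tangent root groups -/
theorem conj_mem_of_all (hS : Cut I S)
    (hT : ∀ (B : Type u) [CommRing B] [Algebra k B] (t : TPt D.M B), (c.datum D).i B t ∈ S B)
    (htan : ∀ a, Tan D I a) (b : D.idx) (B : Type u) [CommRing B] [Algebra k B] (ε : B)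
    (hε : ε * ε = 0) (g : Pt k c.A B) : g * (c.datum D).uu b B ε * g⁻¹ ∈ S B := by
  have hred := isReduced D
  obtain ⟨Δ⟩ := BaseZ.nonempty_base D.P
  obtain ⟨E, hE⟩ := Groth.Agent.Agf.H613.TwGlue.exists_pinCell D Δ c
  let K : Ideal B := Ideal.span {ε}
  have hmem : ε ∈ K := Ideal.subset_span (Set.mem_singleton _)
  have hK : K * K = ⊥ := by
    rw [Ideal.span_mul_span, Set.singleton_mul_singleton, hε, Ideal.span_singleton_eq_bot]
  have hnil : IsNilpotent K := ⟨2, by rw [pow_two, hK]; rfl⟩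
  have h1 : (c.datum D).uu b B ε ∈ nr (k := k) (A := c.A) K := uu_mem_nr (c.datum D) b hmem
  have h2 : g * (c.datum D).uu b B ε * g⁻¹ ∈ nr (k := k) (A := c.A) K :=
    (MonoidHom.normal_ker (Pt.mapHom (A := c.A) (Ideal.Quotient.mkₐ k K))).conj_mem _ h1 g
  obtain ⟨x, t, hx, hxK, -⟩ := exists_cell_of_nr E hnil h2
  rw [hx]
  refine mul_mem (list_prod_mem ?_) ?_
  · intro y hy
    obtain ⟨a, -, rfl⟩ := List.mem_map.mp hy
    obtain ⟨r, hr⟩ := exists_scale E hE a
    rw [hr]
    apply mem_of_tan hS (htan a)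
    have := Ideal.mul_mem_mul (hxK a) (hxK a)
    rw [hK] at this
    have h3 : x a * x a = 0 := this
    linear_combination (algebraMap k B (r : k)) ^ 2 * h3
  · rw [hE]
    exact hT B t

/-- the stability of `V` under the points of the big cell -/
lemma conj_V (H : Chv D D.u vd σ) (Δ : D.P.Base) {m ℓ : ℤ} (T : Two D.P m ℓ) (hmk : (m : k) = 0)
    (E : PinCell D.P Δ k c.A) (hE : ∀ (B : Type u) [CommRing B] [Algebra k B] (t : TPt D.M B),
      E.i B t = (c.datum D).i B t) {B : Type u} [CommRing B] [Algebra k B] {ε : B} (hε : ε * ε = 0)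
    (x : D.idx → B) (t : TPt D.M B) {v : Pt k c.A B} (hv : v ∈ V D c ℓ ε) :
    E.cell x t * v * (E.cell x t)⁻¹ ∈ V D c ℓ ε := by
  have hgen : ∀ g : Pt k c.A B, (∀ v, Gens D c ℓ ε v → g * v * g⁻¹ ∈ V D c ℓ ε) →
      ∀ v ∈ V D c ℓ ε, g * v * g⁻¹ ∈ V D c ℓ ε := by
    intro g hg v hv
    have h1 : V D c ℓ ε ≤ (V D c ℓ ε).comap (MulAut.conj g).toMonoidHom :=
      (Subgroup.closure_le _).mpr fun w hw => hg w hw
    exact h1 hv
  have huu : ∀ (a : D.idx) (y : B), ∀ v ∈ V D c ℓ ε,
      (c.datum D).uu a B y * v * ((c.datum D).uu a B y)⁻¹ ∈ V D c ℓ ε := by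
    intro a y
    apply hgen
    intro w hw
    rcases hw with ⟨b, hb, z⟩ | ⟨b, hb, z, v, hv⟩
    · exact conj_uu H Δ hε T hmk a y hb z
    · exact conj_cow hε T hmk a y hb hv
  have hi : ∀ (t : TPt D.M B), ∀ v ∈ V D c ℓ ε,
      (c.datum D).i B t * v * ((c.datum D).i B t)⁻¹ ∈ V D c ℓ ε := by
    intro t
    apply hgen
    intro w hw
    rcases hw with ⟨b, hb, z⟩ | ⟨b, hb, z, v, hv⟩
    · rw [(c.datum D).rel, ← mul_assoc]
      exact uu_mem hb _
    · have e1 : (c.datum D).i B t * (c.datum D).i B (TPt.cow (D.P.coroot b) v) *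
          ((c.datum D).i B t)⁻¹ = (c.datum D).i B (TPt.cow (D.P.coroot b) v) := by
        rw [← map_mul]
        have e2 : (t * TPt.cow (D.P.coroot b) v : TPt D.M B) = TPt.cow (D.P.coroot b) v * t :=
          MonoidHom.ext fun m => mul_comm (t m) _
        have e3 : (c.datum D).i B (t * TPt.cow (D.P.coroot b) v : TPt D.M B) =
            (c.datum D).i B (TPt.cow (D.P.coroot b) v * t : TPt D.M B) := congrArg _ e2
        refine (congrArg (fun g => g * ((c.datum D).i B t)⁻¹) e3).trans ?_
        refine (congrArg (fun g => g * ((c.datum D).i B t)⁻¹) (map_mul ((c.datum D).i B) _ _)).trans ?_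
        exact mul_inv_cancel_right _ _
      rw [e1]
      exact cow_mem hb hv
  have hcell : E.cell x t = (((allList Δ).map fun a => E.uu a B (x a)).prod) * E.i B t := rfl
  have hprod : ∀ (L : List D.idx), ∀ v ∈ V D c ℓ ε,
      (L.map fun a => E.uu a B (x a)).prod * v * ((L.map fun a => E.uu a B (x a)).prod)⁻¹ ∈
        V D c ℓ ε := by
    intro L
    induction L with
    | nil => intro v hv; simpa using hv
    | cons a L ih =>
      intro v hv
      obtain ⟨r, hr⟩ := exists_scale E hE a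
      have h1 := huu a (algebraMap k B r * x a) _ (ih v hv)
      rw [← hr] at h1
      rw [List.map_cons, List.prod_cons]
      have e1 : E.uu a B (x a) * ((L.map fun a => E.uu a B (x a)).prod * v *
          ((L.map fun a => E.uu a B (x a)).prod)⁻¹) * (E.uu a B (x a))⁻¹ =
        E.uu a B (x a) * (L.map fun a => E.uu a B (x a)).prod * v *
          (E.uu a B (x a) * (L.map fun a => E.uu a B (x a)).prod)⁻¹ := by
        group
      rw [← e1]
      exact h1
  rw [hcell, hE]
  have h1 := hprod (allList Δ) _ (hi t v hv)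
  have e1 : ((allList Δ).map fun a => E.uu a B (x a)).prod *
      ((c.datum D).i B t * v * ((c.datum D).i B t)⁻¹) *
      (((allList Δ).map fun a => E.uu a B (x a)).prod)⁻¹ =
      ((allList Δ).map fun a => E.uu a B (x a)).prod * (c.datum D).i B t * v *
      (((allList Δ).map fun a => E.uu a B (x a)).prod * (c.datum D).i B t)⁻¹ := by
    group
  rw [← e1]
  exact h1

/-- **The edge case.** -/
theorem conj_mem_of_short (H : Chv D D.u vd σ) {m ℓ : ℤ} (T : Two D.P m ℓ) (hmk : (m : k) = 0)
    (hS : Cut I S)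
    (hT : ∀ (B : Type u) [CommRing B] [Algebra k B] (t : TPt D.M B), (c.datum D).i B t ∈ S B)
    (htan : ∀ a, len D.P a = ℓ → Tan D I a) {b : D.idx} (hb : len D.P b = ℓ)
    (B : Type u) [CommRing B] [Algebra k B] (ε : B)
    (hε : ε * ε = 0) (g : Pt k c.A B) : g * (c.datum D).uu b B ε * g⁻¹ ∈ S B := by
  have hred := isReduced D
  obtain ⟨Δ⟩ := BaseZ.nonempty_base D.P
  obtain ⟨E, hE⟩ := Groth.Agent.Agf.H613.TwGlue.exists_pinCell D Δ c
  refine conj_mem_of_cells hS E b ?_ B ε hε g
  intro B _ _ ε hε x t x' t'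
  have hV : V D c ℓ ε ≤ S B := by
    refine (Subgroup.closure_le _).mpr ?_
    rintro w hw
    rcases hw with ⟨b, hb, z⟩ | ⟨b, hb, z, v, hv⟩
    · exact mem_of_tan hS (htan b hb) (by linear_combination (z * z) * hε)
    · exact hT B _
  have h1 : (c.datum D).uu b B ε ∈ V D c ℓ ε := by
    have := uu_mem (c := c) (ε := ε) hb (1 : B)
    rwa [one_mul] at this
  have h2 := conj_V H Δ T hmk E hE hε x t (conj_V H Δ T hmk E hE hε x' t' h1)
  apply hV
  have e1 : E.cell x t * (E.cell x' t' * (c.datum D).uu b B ε * (E.cell x' t')⁻¹) *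
      (E.cell x t)⁻¹ = E.cell x t * E.cell x' t' * (c.datum D).uu b B ε *
        (E.cell x t * E.cell x' t')⁻¹ := by
    group
  rw [← e1]
  exact h2

end K214.ConjAll
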