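import Groth.Agent.ParSch.K214.TanAdd

/-!
# Coordinates of points near the unit
-/

set_option autoImplicit false
universe u
open CategoryTheory AlgebraicGeometry Polynomial

namespace K214.Coord

open Groth.Agent.Sga3B Groth.Agent.Sga3B.Cell Groth.Agent.Sga3B.Cell.Datum
  Groth.Agent.Sga3B.PinMod K803.HtOne K803.Lie

variable {k : Type u} [Field k] {A : Type u} [CommRing A] [Algebra k A] [PtGrp k A] {D : Datum k A}

/-- the tangent vectors of the root homomorphisms are not zero -/
lemma exists_tan_eq_one (D : Datum k A) (e : D.idx) :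
    ∃ f : A, (1 : Pt k A k).hom f = 0 ∧ tan D e f = 1 := by
  obtain ⟨f, hf⟩ := D.uu_surj e X
  refine ⟨f, ?_, ?_⟩
  · have h1 := D.uu_nat e (Polynomial.aeval (0 : k) : k[X] →ₐ[k] k) X
    rw [Polynomial.aeval_X, D.uu_zero] at h1
    rw [← h1, Pt.map_hom_apply, hf, Polynomial.aeval_X]
  · rw [tan, hf, Polynomial.coeff_X_one]

/-- the trivial subgroup functor is closed -/
lemma mem_bot_iff (B : Type u) [CommRing B] [Algebra k B] (g : Pt k A B) :
    g ∈ (⊥ : Subgroup (Pt k A B)) ↔
      ∀ f ∈ RingHom.ker ((1 : Pt k A k).hom : A →+* k), g.hom f = 0 := by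
  rw [Subgroup.mem_bot]
  constructor
  · rintro rfl f hf
    rw [one_hom, show (1 : Pt k A k).hom f = 0 from hf, map_zero]
  · intro h
    apply Pt.ext
    intro f
    have h1 := h (f - algebraMap k A ((1 : Pt k A k).hom f)) (by
      rw [RingHom.mem_ker, map_sub]
      change (1 : Pt k A k).hom f - (1 : Pt k A k).hom (algebraMap k A _) = 0
      rw [AlgHom.commutes]
      exact sub_self _)
    rw [map_sub, AlgHom.commutes, sub_eq_zero] at h1
    rw [h1, ← one_hom]

/-- coordinates of the unit near the unit -/
lemma coord_one {B : Type u} [CommRing B] [Algebra k B] {K : Ideal B} (hK : K * K = ⊥)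
    {L : List D.idx} (hL : L.Nodup) (hL' : ∀ b, b ∈ L) {y : D.idx → B} (hy : ∀ b, y b ∈ K)
    (h : (L.map fun b => D.uu b B (y b)).prod = 1) (e : D.idx) : y e = 0 := by
  obtain ⟨f, hf, hf1⟩ := exists_tan_eq_one D e
  have h1 := weights (D := D) (fun B _ _ => (⊥ : Subgroup (Pt k A B))) mem_bot_iff
    (fun B _ _ t g hg => by
      rw [Subgroup.mem_bot] at hg ⊢
      rw [hg, mul_one, mul_inv_cancel]) hK hL hL' hy (t := 1) (by
      rw [Subgroup.mem_bot, Datum.cell, h, map_one, one_mul]) e (f := f) hf
  rwa [hf1, map_one, one_mul] at h1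

/-- coordinates of a point of a root group near the unit -/
theorem coord_zero {B : Type u} [CommRing B] [Algebra k B] {K : Ideal B} (hK : K * K = ⊥)
    {L : List D.idx} (hL : L.Nodup) (hL' : ∀ b, b ∈ L) {y : D.idx → B} (hy : ∀ b, y b ∈ K)
    {d : D.idx} {z : B} (hz : z ∈ K)
    (h : (L.map fun b => D.uu b B (y b)).prod = D.uu d B z) {e : D.idx} (he : e ≠ d) : y e = 0 := by
  classical
  have hy' : ∀ b, Function.update y d (y d - z) b ∈ K := by
    intro b
    by_cases hb : b = d
    · rw [hb, Function.update_self]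
      exact K.sub_mem (hy d) hz
    · rw [Function.update_of_ne hb]
      exact hy b
  have hzz : z * z = 0 := by
    have := Ideal.mul_mem_mul hz hz
    rw [hK] at this
    exact this
  have h1 : (L.map fun b => D.uu b B (Function.update y d (y d - z) b)).prod = 1 := by
    apply pt_ext
    intro f
    rw [dd_one, dd_prod hK hL hL' hy']
    have h2 := dd_prod hK hL hL' hy f
    rw [h, dd_uu D d hzz] at h2
    rw [← Finset.add_sum_erase _ _ (Finset.mem_univ d)] at h2 ⊢
    rw [Function.update_self]
    have h3 : ∑ x ∈ Finset.univ.erase d, (algebraMap k B) (tan D x f) *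
        Function.update y d (y d - z) x =
        ∑ x ∈ Finset.univ.erase d, (algebraMap k B) (tan D x f) * y x := by
      apply Finset.sum_congr rfl
      intro x hx
      rw [Function.update_of_ne (Finset.ne_of_mem_erase hx)]
    rw [h3]
    linear_combination -h2
  have h2 := coord_one hK hL hL' hy' h1 e
  rwa [Function.update_of_ne he] at h2

end K214.Coord
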