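import Groth.Agent.ParSch.K803.OfIdeal
import Groth.Agent.ParSch.K803.HtOne
import Mathlib.RingTheory.TensorProduct.Free

/-!
# The largest normal subgroup scheme contained in a closed subgroup scheme
-/

set_option autoImplicit false
universe u
open CategoryTheory AlgebraicGeometry TensorProduct

namespace K214.Core

open Groth.Agent.Sga3B Groth.Agent.Sga3B.Cell Groth.Agent.Sga3B.PinMod K803.SubPt K803.OfIdeal
  K803.HtOne

variable {k : Type u} [Field k] {G : Over (Spec (CommRingCat.of k))} [GrpObj G]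
  {c : Chart G (𝟙 (Spec (CommRingCat.of k)))} {I : Ideal c.A}
  {S : ∀ (B : Type u) [CommRing B] [Algebra k B], Subgroup (Pt k c.A B)}

/-- the points all of whose conjugates are in `S` -/
def InCore (S : ∀ (B : Type u) [CommRing B] [Algebra k B], Subgroup (Pt k c.A B))
    {B : Type u} [CommRing B] [Algebra k B] (x : Pt k c.A B) : Prop :=
  ∀ (C : Type u) [CommRing C] [Algebra k C] (φ : B →ₐ[k] C) (g : Pt k c.A C),
    g * Pt.map φ x * g⁻¹ ∈ S C

lemma InCore.map {B C : Type u} [CommRing B] [Algebra k B] [CommRing C] [Algebra k C]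
    (φ : B →ₐ[k] C) {x : Pt k c.A B} (h : InCore S x) : InCore S (Pt.map φ x) :=
  fun E _ _ ψ g => h E (ψ.comp φ) g

lemma InCore.mul {B : Type u} [CommRing B] [Algebra k B] {x y : Pt k c.A B} (h : InCore S x)
    (h' : InCore S y) : InCore S (x * y) := by
  intro C _ _ φ g
  have h1 := mul_mem (h C φ g) (h' C φ g)
  rw [Pt.map_mul]
  have e : g * Pt.map φ x * g⁻¹ * (g * Pt.map φ y * g⁻¹) =
      g * (Pt.map φ x * Pt.map φ y) * g⁻¹ := by group
  rwa [e] at h1

lemma InCore.inv {B : Type u} [CommRing B] [Algebra k B] {x : Pt k c.A B} (h : InCore S x) :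
    InCore S x⁻¹ := by
  intro C _ _ φ g
  have h1 := inv_mem (h C φ g)
  rw [Pt.map_inv]
  have e : (g * Pt.map φ x * g⁻¹)⁻¹ = g * (Pt.map φ x)⁻¹ * g⁻¹ := by group
  rwa [e] at h1

lemma InCore.one {B : Type u} [CommRing B] [Algebra k B] : InCore S (1 : Pt k c.A B) := by
  intro C _ _ φ g
  rw [Pt.map_one, mul_one, mul_inv_cancel]
  exact one_mem _

lemma InCore.conj {B : Type u} [CommRing B] [Algebra k B] {x : Pt k c.A B} (h : InCore S x)
    (y : Pt k c.A B) : InCore S (y * x * y⁻¹) := by
  intro C _ _ φ g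
  have h1 := h C φ (g * Pt.map φ y)
  rw [Pt.map_mul, Pt.map_mul, Pt.map_inv]
  have e : g * Pt.map φ y * Pt.map φ x * (g * Pt.map φ y)⁻¹ =
      g * (Pt.map φ y * Pt.map φ x * (Pt.map φ y)⁻¹) * g⁻¹ := by group
  rwa [e] at h1

lemma InCore.mem {B : Type u} [CommRing B] [Algebra k B] {x : Pt k c.A B} (h : InCore S x) :
    x ∈ S B := by
  have h1 := h B (AlgHom.id k B) 1
  rwa [Pt.map_id, one_mul, inv_one, mul_one] at h1

/-- the coefficients of an element of `A ⊗ A` in the second factor -/
noncomputable def coef (A : Type u) [CommRing A] [Algebra k A] (z : A ⊗[k] A)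
    (i : Module.Free.ChooseBasisIndex k A) : A :=
  (Algebra.TensorProduct.basis A (Module.Free.chooseBasis k A)).repr z i

lemma eq_sum {A : Type u} [CommRing A] [Algebra k A] (z : A ⊗[k] A) :
    z = ((Algebra.TensorProduct.basis A (Module.Free.chooseBasis k A)).repr z).sum
      (fun i a => a ⊗ₜ[k] (Module.Free.chooseBasis k A i)) := by
  conv_lhs => rw [← (Algebra.TensorProduct.basis A (Module.Free.chooseBasis k A)).linearCombination_repr z]
  rw [Finsupp.linearCombination_apply]
  apply Finsupp.sum_congr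
  intro i _
  rw [Algebra.TensorProduct.basis_apply, TensorProduct.smul_tmul', smul_eq_mul, mul_one]

/-- an element of `A ⊗ A` is killed in `B ⊗ A` iff its coefficients are killed in `B` -/
lemma map_eq_zero_iff {A B : Type u} [CommRing A] [Algebra k A] [CommRing B] [Algebra k B]
    (f : A →ₐ[k] B) (z : A ⊗[k] A) :
    Algebra.TensorProduct.map f (AlgHom.id k A) z = 0 ↔ ∀ i, f (coef A z i) = 0 := by
  classical
  set β := Module.Free.chooseBasis k A
  have h1 : Algebra.TensorProduct.map f (AlgHom.id k A) z =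
      ((Algebra.TensorProduct.basis A β).repr z).sum fun i a => f a ⊗ₜ[k] (β i) := by
    conv_lhs => rw [eq_sum z]
    rw [Finsupp.sum, map_sum]
    rfl
  have h2 : (Algebra.TensorProduct.basis B β).repr
      (Algebra.TensorProduct.map f (AlgHom.id k A) z) =
      ((Algebra.TensorProduct.basis A β).repr z).mapRange f (map_zero f) := by
    rw [h1]
    apply (Algebra.TensorProduct.basis B β).repr.symm.injective
    rw [LinearEquiv.symm_apply_apply, Module.Basis.repr_symm_apply,
      Finsupp.linearCombination_apply, Finsupp.sum_mapRange_index (by intro i; simp)]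
    apply Finsupp.sum_congr
    intro i _
    rw [Algebra.TensorProduct.basis_apply, TensorProduct.smul_tmul', smul_eq_mul, mul_one]
  constructor
  · intro h i
    rw [h, map_zero] at h2
    exact (DFunLike.congr_fun h2 i).symm
  · intro h
    have h3 : ((Algebra.TensorProduct.basis A β).repr z).mapRange f (map_zero f) = 0 := by
      ext i
      exact h i
    rw [h3] at h2
    exact (LinearEquiv.map_eq_zero_iff _).mp h2

/-- **The core of a closed subgroup functor is closed.** -/
theorem exists_core (hS : Cut I S) : ∃ J : Ideal c.A, ∀ (B : Type u) [CommRing B] [Algebra k B]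
    (x : Pt k c.A B), Kills c J x ↔ InCore S x := by
  let xu : Pt k c.A (c.A ⊗[k] c.A) := Pt.mk Algebra.TensorProduct.includeLeft
  let gu : Pt k c.A (c.A ⊗[k] c.A) := Pt.mk Algebra.TensorProduct.includeRight
  let q : Pt k c.A (c.A ⊗[k] c.A) := gu * xu * gu⁻¹
  refine ⟨Ideal.span {a | ∃ f ∈ I, ∃ i, a = coef c.A (q.hom f) i}, fun B _ _ x => ?_⟩
  have hk : Kills c (Ideal.span {a | ∃ f ∈ I, ∃ i, a = coef c.A (q.hom f) i}) x ↔
      ∀ f ∈ I, ∀ i, x.hom (coef c.A (q.hom f) i) = 0 := by
    constructor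
    · intro h f hf i
      exact h _ (Ideal.subset_span ⟨f, hf, i, rfl⟩)
    · intro h
      have h2 : Ideal.span {a | ∃ f ∈ I, ∃ i, a = coef c.A (q.hom f) i} ≤
          RingHom.ker (x.hom : c.A →+* B) := by
        rw [Ideal.span_le]
        rintro _ ⟨f, hf, i, rfl⟩
        exact h f hf i
      exact fun f hf => h2 hf
  rw [hk]
  have hΨ : ∀ (C : Type u) [CommRing C] [Algebra k C] (φ : B →ₐ[k] C) (g : Pt k c.A C),
      g * Pt.map φ x * g⁻¹ =
        Pt.map (Algebra.TensorProduct.lift (φ.comp x.hom) g.hom (fun _ _ => Commute.all _ _)) q := by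
    intro C _ _ φ g
    rw [Pt.map_mul, Pt.map_mul, Pt.map_inv]
    have e1 : Pt.map (Algebra.TensorProduct.lift (φ.comp x.hom) g.hom
        (fun _ _ => Commute.all _ _)) xu = Pt.map φ x := by
      ext f; simp [xu]
    have e2 : Pt.map (Algebra.TensorProduct.lift (φ.comp x.hom) g.hom
        (fun _ _ => Commute.all _ _)) gu = g := by
      ext f; simp [gu]
    rw [e1, e2]
  constructor
  · intro h C _ _ φ g
    rw [hΨ, hS]
    intro f hf
    have h1 := (map_eq_zero_iff x.hom (q.hom f)).mpr (h f hf)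
    have h2 : (Algebra.TensorProduct.lift (φ.comp x.hom) g.hom (fun _ _ => Commute.all _ _)) =
        (Algebra.TensorProduct.lift φ g.hom (fun _ _ => Commute.all _ _)).comp
          (Algebra.TensorProduct.map x.hom (AlgHom.id k c.A)) := by
      ext f <;> simp
    rw [Pt.map_hom_apply, h2, AlgHom.comp_apply, h1, map_zero]
  · intro h f hf
    rw [← map_eq_zero_iff]
    have h1 := h (B ⊗[k] c.A) Algebra.TensorProduct.includeLeft
      (Pt.mk Algebra.TensorProduct.includeRight)
    rw [hΨ, hS] at h1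
    have h2 := h1 f hf
    have h3 : (Algebra.TensorProduct.lift ((Algebra.TensorProduct.includeLeft :
        B →ₐ[k] B ⊗[k] c.A).comp x.hom) (Pt.mk (Algebra.TensorProduct.includeRight :
          c.A →ₐ[k] B ⊗[k] c.A)).hom (fun _ _ => Commute.all _ _)) =
          (Algebra.TensorProduct.map x.hom (AlgHom.id k c.A)) := by
      ext f <;> simp
    rw [h3] at h2
    exact h2

/-- **The core of a closed subgroup functor as a closed normal subgroup scheme.** -/
theorem exists_core_grp (hS : Cut I S) : ∃ (N : Over (Spec (CommRingCat.of k))) (_ : GrpObj N)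
    (n : N ⟶ G) (_ : IsMonHom n), IsClosedImmersion n.left ∧ AlgGrp.IsNormalHom n ∧
      ∀ (B : Type u) [CommRing B] [Algebra k B] (x : Pt k c.A B), x ∈ sub c n B ↔ InCore S x := by
  obtain ⟨J, hJ⟩ := exists_core hS
  obtain ⟨_, _⟩ := exists_grpObj (c := c) (I := J) ((hJ k 1).mpr InCore.one)
    (fun B _ _ g g' h h' => (hJ B _).mpr (((hJ B g).mp h).mul ((hJ B g').mp h')))
    (fun B _ _ g h => (hJ B _).mpr ((hJ B g).mp h).inv)
  have key : ∀ (B : Type u) [CommRing B] [Algebra k B] (x : Pt k c.A B),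
      x ∈ sub c (clι c J) B ↔ InCore S x := fun B _ _ x => (exists_pt_iff x).trans (hJ B x)
  refine ⟨_, _, clι c J, inferInstance, inferInstance, ?_, key⟩
  apply isNormalHom_of_conj (c := c)
  intro B _ _ g x hx
  rw [key] at hx ⊢
  exact hx.conj g

end K214.Core
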