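import Mathlib.LinearAlgebra.Dual.Lemmas
import Mathlib.LinearAlgebra.FreeModule.PID
import Mathlib.Algebra.Module.Torsion.Basic
import Mathlib.LinearAlgebra.LinearIndependent.Lemmas

/-!
# Functionals on a finitely generated abelian group with prescribed zeros
-/

set_option autoImplicit false

namespace K214.Lin

/-- a functional which is positive at one member of an independent family and zero at the others -/
theorem exists_functional {ι M : Type*} [AddCommGroup M] [Module.Finite ℤ M] {v : ι → M} {s : Set ι}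
    (h : LinearIndepOn ℤ v s) {α : ι} (hα : α ∈ s) :
    ∃ f : M →ₗ[ℤ] ℤ, 0 < f (v α) ∧ ∀ i ∈ s, i ≠ α → f (v i) = 0 := by
  classical
  let W := Submodule.span ℤ (v '' (s \ {α}))
  have hW : ∀ n : ℤ, n ≠ 0 → n • v α ∉ W := by
    intro n hn hmem
    rw [Finsupp.mem_span_image_iff_linearCombination] at hmem
    obtain ⟨l, hl, hl'⟩ := hmem
    rw [linearIndepOn_iff] at h
    have h1 := h (l - Finsupp.single α n) (by
      apply Submodule.sub_mem
      · exact Finsupp.supported_mono Set.diff_subset hl
      · exact Finsupp.single_mem_supported ℤ n hα) (by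
      rw [map_sub, hl', Finsupp.linearCombination_single, sub_self])
    have h2 := DFunLike.congr_fun h1 α
    rw [Finsupp.sub_apply, Finsupp.single_eq_same, Finsupp.zero_apply] at h2
    have h3 : l α = 0 := by
      rw [Finsupp.mem_supported] at hl
      by_contra hne
      exact (hl (Finsupp.mem_support_iff.2 hne)).2 rfl
    omega
  let Q := (M ⧸ W) ⧸ Submodule.torsion ℤ (M ⧸ W)
  let π : M →ₗ[ℤ] Q := (Submodule.mkQ _).comp W.mkQ
  have hπ : π (v α) ≠ 0 := by
    intro h0
    have h1 : W.mkQ (v α) ∈ Submodule.torsion ℤ (M ⧸ W) := (Submodule.Quotient.mk_eq_zero _).1 h0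
    obtain ⟨⟨a, ha⟩, h2⟩ := h1
    have h3 : W.mkQ (a • v α) = 0 := h2
    rw [Submodule.mkQ_apply, Submodule.Quotient.mk_eq_zero] at h3
    exact hW a (nonZeroDivisors.ne_zero ha) h3
  obtain ⟨f, hf⟩ : ∃ f : Module.Dual ℤ Q, f (π (v α)) ≠ 0 := by
    by_contra hcon
    push Not at hcon
    exact hπ ((Module.forall_dual_apply_eq_zero_iff ℤ _).1 hcon)
  have hz : ∀ i ∈ s, i ≠ α → π (v i) = 0 := by
    intro i hi hne
    have h1 : W.mkQ (v i) = 0 := by
      rw [Submodule.mkQ_apply, Submodule.Quotient.mk_eq_zero]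
      exact Submodule.subset_span ⟨i, ⟨hi, hne⟩, rfl⟩
    change (Submodule.mkQ _) (W.mkQ (v i)) = 0
    rw [h1, map_zero]
  rcases lt_or_gt_of_ne hf with h1 | h1
  · refine ⟨-(f.comp π), ?_, fun i hi hne => ?_⟩
    · simp only [LinearMap.neg_apply, LinearMap.comp_apply]
      omega
    · simp only [LinearMap.neg_apply, LinearMap.comp_apply, hz i hi hne, map_zero, neg_zero]
  · refine ⟨f.comp π, h1, fun i hi hne => ?_⟩
    simp only [LinearMap.comp_apply, hz i hi hne, map_zero]

end K214.Lin
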