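import Groth.Agent.ParSch.K214.ParComb
import Groth.Agent.ParSch.K803.Pair2

/-!
# Sets of roots containing the roots of a maximal parabolic subgroup: two root lengths

If `S` is closed under the sums which are not sums of two short roots being long, then it contains the
short roots.
-/

set_option autoImplicit false

open RootPairing

namespace K214.ParComb

open K221.Prop K221.Form K221.Conn K803.RComb K803.Pair2

variable {ι M N : Type*} [Fintype ι] [AddCommGroup M] [AddCommGroup N] {P : RootPairing ι ℤ M N}
  [P.IsReduced]

/-- two root lengths -/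
structure Two (P : RootPairing ι ℤ M N) (m ℓ : ℤ) : Prop where
  hm : m = 2 ∨ m = 3
  lens : ∀ e, len P e = ℓ ∨ len P e = m * ℓ

variable {m ℓ : ℤ} (T : Two P m ℓ)

omit [P.IsReduced] in
include T in
lemma Two.pos (e : ι) : 0 < ℓ := by
  have h1 := len_pos (P := P) e
  have := T.hm
  rcases T.lens e with h | h
  · omega
  · rw [h] at h1
    exact pos_of_mul_pos_right h1 (by omega)

include T in
lemma Two.short_pairing {e f : ι} (he : len P e = ℓ) (h1 : e ≠ f) (h2 : e ≠ P.reflectionPerm f f) :
    -1 ≤ P.pairing e f ∧ P.pairing e f ≤ 1 := by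
  have h0 := T.pos e
  have h3 := len_swap (P := P) e f
  have h4 : ℓ ≤ len P f := by
    rcases T.hm with hm | hm <;> rcases T.lens f with h | h <;> rw [h] <;> subst hm <;> omega
  rw [he] at h3
  rcases pairs h1 h2 with h | h | h | h | h | h | h | h | h | h | h <;>
    (obtain ⟨e1, e2⟩ := h; rw [e1, e2] at h3; omega)

include T in
/-- reflecting a short root down -/
lemma Two.exists_sub {e f : ι} (he : len P e = ℓ) (h1 : e ≠ f) (h : 0 < P.pairing e f) :
    P.pairing e f = 1 ∧ len P (P.reflectionPerm f e) = ℓ ∧
      P.root (P.reflectionPerm f e) = P.root e - P.root f := by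
  have h2 : e ≠ P.reflectionPerm f f := by
    rintro rfl
    rw [pairing_reflectionPerm_self_left, pairing_same] at h
    omega
  have h3 := T.short_pairing he h1 h2
  have h4 : P.pairing e f = 1 := by omega
  refine ⟨h4, by rw [len_refl, he], ?_⟩
  rw [root_reflectionPerm, reflection_apply_root, h4, one_smul]

variable {b : P.Base} {α : ι} {x : M →ₗ[ℤ] ℤ} {S : Set ι} (h : Dat b α x S)
  (hcl : ∀ e ∈ S, ∀ f ∈ S, ∀ g, P.root g = P.root e + P.root f →
    ¬ (len P e = ℓ ∧ len P f = ℓ ∧ len P g = m * ℓ) → g ∈ S)

omit [P.IsReduced] in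
include T hcl in
lemma mem_of_short {e f g : ι} (he : e ∈ S) (hf : f ∈ S) (hg : P.root g = P.root e + P.root f)
    (hs : len P g = ℓ) : g ∈ S := by
  refine hcl e he f hf g hg ?_
  rintro ⟨h1, h2, h3⟩
  have := T.pos e
  rcases T.hm with rfl | rfl <;> omega

omit [P.IsReduced] in
include T hcl in
lemma mem_of_long {e f g : ι} (he : e ∈ S) (hf : f ∈ S) (hg : P.root g = P.root e + P.root f)
    (hs : len P e = m * ℓ ∨ len P f = m * ℓ) : g ∈ S := by
  refine hcl e he f hf g hg ?_
  rintro ⟨h1, h2, h3⟩
  have := T.pos e
  rcases T.hm with rfl | rfl <;> omega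

include T h hcl in
/-- a short root in the unipotent part whose opposite is in `S` -/
theorem exists_short (hirr : Irr P) {s : ι} (hs : len P s = ℓ) :
    ∃ g, len P g = ℓ ∧ 0 < x (P.root g) ∧ P.reflectionPerm g g ∈ S := by
  by_contra hno
  push Not at hno
  have hlong : ∀ g, 0 < x (P.root g) → P.reflectionPerm g g ∈ S → len P g = m * ℓ := by
    intro g hg hgS
    rcases T.lens g with h1 | h1
    · exact absurd hgS (hno g h1 hg)
    · exact h1
  have hα := h.neg_simple_mem fun e he hxe f hf g hg => by
    refine mem_of_long T hcl he hf hg (Or.inl ?_)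
    have h1 := hlong (P.reflectionPerm e e) (by rw [x_neg]; omega) (by rwa [neg_neg_idx])
    rwa [len_neg] at h1
  have hαl := hlong α h.pos hα
  have hΔ : ∀ j ∈ b.support, P.reflectionPerm j j ∈ S := by
    intro j hj
    by_cases hjα : j = α
    · rwa [hjα]
    · exact h.neg_mem hj hjα
  have key : ∀ g, b.IsPos g → P.reflectionPerm g g ∈ S := by
    intro g hg
    refine hg.induction_on_add (p := fun g => b.IsPos g ∧ P.reflectionPerm g g ∈ S)
      (fun j hj => ⟨Base.isPos_of_mem_support hj, hΔ j hj⟩) ?_ |>.2
    intro i j k hk hi hj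
    have hkpos : b.IsPos k := hi.1.add (Base.isPos_of_mem_support hj) hk
    refine ⟨hkpos, ?_⟩
    by_cases hjα : j = α
    · refine mem_of_long T hcl hi.2 (hΔ j hj) (neg_root_add hk) (Or.inr ?_)
      rw [len_neg, hjα, hαl]
    · by_cases hxi : 0 < x (P.root i)
      · refine mem_of_long T hcl hi.2 (hΔ j hj) (neg_root_add hk) (Or.inl ?_)
        rw [len_neg, hlong i hxi hi.2]
      · apply h.sub
        have h1 := h.nonneg hi.1
        rw [x_neg, hk, map_add, h.zero j hj hjα]
        omega
  -- a short root with `x ≠ 0`
  obtain ⟨s', hs', hs'α⟩ := hirr.exists_conj s α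
  have hs'l : len P s' = ℓ := by rw [len_conj hs', hs]
  obtain ⟨t, ht, hxt⟩ : ∃ t, len P t = ℓ ∧ x (P.root t) ≠ 0 := by
    by_cases h1 : x (P.root s') = 0
    · refine ⟨P.reflectionPerm α s', by rw [len_refl, hs'l], ?_⟩
      rw [root_reflectionPerm, reflection_apply_root, map_sub, map_smul, h1, smul_eq_mul]
      have := h.pos
      have h2 : P.pairing s' α * x (P.root α) ≠ 0 := mul_ne_zero hs'α this.ne'
      omega
    · exact ⟨s', hs'l, h1⟩
  rcases lt_or_gt_of_ne hxt with h1 | h1
  · have h2 : 0 < x (P.root (P.reflectionPerm t t)) := by rw [x_neg]; omega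
    exact hno _ (by rw [len_neg, ht]) h2 (key _ (h.isPos h2))
  · exact hno t ht h1 (key _ (h.isPos h1))

include T h hcl in
/-- a minimal short root whose opposite is in `S` -/
theorem exists_min (hirr : Irr P) {s : ι} (hs : len P s = ℓ) :
    ∃ μ, len P μ = ℓ ∧ 0 < x (P.root μ) ∧ P.reflectionPerm μ μ ∈ S ∧
      ∀ j ∈ b.support, j ≠ μ → 0 < P.pairing μ j → x (P.root μ) = x (P.root j) := by
  obtain ⟨g₀, h1, h2, h3⟩ := exists_short T h hcl hirr hs
  have key : ∀ n : ℕ, ∀ g : ι, len P g = ℓ → 0 < x (P.root g) → P.reflectionPerm g g ∈ S →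
      b.height g ≤ n → ∃ μ, len P μ = ℓ ∧ 0 < x (P.root μ) ∧ P.reflectionPerm μ μ ∈ S ∧
      ∀ j ∈ b.support, j ≠ μ → 0 < P.pairing μ j → x (P.root μ) = x (P.root j) := by
    intro n
    induction n with
    | zero =>
      intro g _ hg _ hn
      have := h.isPos hg
      rw [b.isPos_iff] at this
      omega
    | succ n ih =>
      intro g hgl hg hgS hn
      by_cases hmin : ∀ j ∈ b.support, j ≠ g → 0 < P.pairing g j → x (P.root g) = x (P.root j)
      · exact ⟨g, hgl, hg, hgS, hmin⟩
      · push Not at hmin
        obtain ⟨j, hj, hjg, hp, hx⟩ := hmin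
        obtain ⟨hp1, hl, hr⟩ := T.exists_sub hgl hjg.symm hp
        have hpos := h.isPos hg
        have hxg := h.val hpos
        have hxj : x (P.root j) = 0 ∨ x (P.root j) = x (P.root α) := by
          by_cases hjα : j = α
          · exact Or.inr (by rw [hjα])
          · exact Or.inl (h.zero j hj hjα)
        refine ih (P.reflectionPerm j g) hl ?_ ?_ ?_
        · rw [hr, map_sub]
          omega
        · refine mem_of_short T hcl hgS (h.sub j (h.nonneg (Base.isPos_of_mem_support hj))) ?_
            (by rw [len_neg, hl])
          rw [root_neg, root_neg, hr]; abel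
        · rw [b.height_sub hr, b.height_one_of_mem_support hj]
          omega
  exact key (b.height g₀).toNat g₀ h1 h2 h3 (by omega)

include T h hcl in
/-- **Case II.** `S` contains the short roots. -/
theorem Dat.mem_of_short (hirr : Irr P) {e : ι} (he : len P e = ℓ) : e ∈ S := by
  obtain ⟨μ, hμl, hμ, hμS, hmin⟩ := exists_min T h hcl hirr he
  have hα0 := h.pos
  have hμpos := h.isPos hμ
  -- reduction to positive roots
  suffices key : ∀ n : ℕ, ∀ g : ι, len P g = ℓ → 0 < x (P.root g) → b.height g ≤ n →
      P.reflectionPerm g g ∈ S by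
    by_cases hx : 0 ≤ x (P.root e)
    · exact h.sub e hx
    · have h1 := key (b.height (P.reflectionPerm e e)).toNat (P.reflectionPerm e e)
        (by rw [len_neg, he]) (by rw [x_neg]; omega) (by omega)
      rwa [neg_neg_idx] at h1
  -- the simple root `j` with `(μ, j) > 0`
  have hμj : ∀ j ∈ b.support, j ≠ α → j ≠ μ := by
    rintro j hj hjα rfl
    rw [h.zero j hj hjα] at hμ
    omega
  rcases T.lens α with hαl | hαl
  · -- `α` short
    have hαS : P.reflectionPerm α α ∈ S := by
      by_cases hμα : μ = α
      · rwa [hμα] at hμS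
      · have hns : μ ∉ b.support := fun hs => by
          rw [h.zero μ hs hμα] at hμ
          omega
        obtain ⟨j, hj, hjp, -, -⟩ := exists_sub_simple hμpos hns
        have hjμ : j ≠ μ := fun e => hns (e ▸ hj)
        have h1 := hmin j hj hjμ hjp
        have hjα : j = α := by
          by_contra hjα
          rw [h.zero j hj hjα] at h1
          omega
        rw [hjα] at h1 hjp hjμ
        obtain ⟨-, -, hr⟩ := T.exists_sub hμl hjμ.symm hjp
        have h2 : x (P.root (P.reflectionPerm α μ)) = 0 := by rw [hr, map_sub, h1, sub_self]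
        refine K214.ParComb.mem_of_short T hcl hμS (h.sub _ h2.ge) ?_ (by rw [len_neg, hαl])
        rw [root_neg, root_neg, hr]; abel
    have hΔ : ∀ j ∈ b.support, P.reflectionPerm j j ∈ S := by
      intro j hj
      by_cases hjα : j = α
      · rwa [hjα]
      · exact h.neg_mem hj hjα
    have key : ∀ n : ℕ, ∀ g : ι, len P g = ℓ → b.IsPos g → b.height g ≤ n →
        P.reflectionPerm g g ∈ S := by
      intro n
      induction n with
      | zero =>
        intro g _ hg hn
        rw [b.isPos_iff] at hg
        omega
      | succ n ih =>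
        intro g hgl hg hn
        by_cases hs : g ∈ b.support
        · exact hΔ g hs
        · obtain ⟨j, hj, hjp, -, -⟩ := exists_sub_simple hg hs
          have hjg : g ≠ j := fun e => hs (e ▸ hj)
          obtain ⟨-, hl, hr⟩ := T.exists_sub hgl hjg hjp
          have h1 := ih (P.reflectionPerm j g) hl (hg.sub hj hr) (by
            rw [b.height_sub hr, b.height_one_of_mem_support hj]; omega)
          refine K214.ParComb.mem_of_short T hcl h1 (hΔ j hj) ?_ (by rw [len_neg, hgl])
          rw [root_neg, root_neg, root_neg, hr]; abel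
    exact fun n g hgl hg hn => key n g hgl (h.isPos hg) hn
  · -- `α` long
    have hμα : μ ≠ α := by
      rintro rfl
      have := T.pos μ
      rcases T.hm with rfl | rfl <;> omega
    have hns : μ ∉ b.support := fun hs => by
      rw [h.zero μ hs hμα] at hμ
      omega
    obtain ⟨j, hj, hjp, -, -⟩ := exists_sub_simple hμpos hns
    have hjμ : j ≠ μ := fun e => hns (e ▸ hj)
    have hxμ := hmin j hj hjμ hjp
    have hjα : j = α := by
      by_contra hjα
      rw [h.zero j hj hjα] at hxμ
      omega
    rw [hjα] at hxμ hjp hjμ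
    obtain ⟨hμα1, hδl, hδ⟩ := T.exists_sub hμl hjμ.symm hjp
    have hxδ : x (P.root (P.reflectionPerm α μ)) = 0 := by rw [hδ, map_sub, hxμ, sub_self]
    intro n
    induction n with
    | zero =>
      intro g _ hg hn
      have := h.isPos hg
      rw [b.isPos_iff] at this
      omega
    | succ n ih =>
      intro g hgl hg hn
      have hgpos := h.isPos hg
      by_cases hex : ∃ j ∈ b.support, j ≠ α ∧ 0 < P.pairing g j
      · obtain ⟨j, hj, hjα, hjp⟩ := hex
        have hgj : g ≠ j := by
          rintro rfl
          rw [h.zero g hj hjα] at hg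
          omega
        obtain ⟨-, hl, hr⟩ := T.exists_sub hgl hgj hjp
        have h1 := ih (P.reflectionPerm j g) hl (by rw [hr, map_sub, h.zero j hj hjα]; omega) (by
            rw [b.height_sub hr, b.height_one_of_mem_support hj]; omega)
        refine K214.ParComb.mem_of_short T hcl h1 (h.neg_mem hj hjα) ?_ (by rw [len_neg, hgl])
        rw [root_neg, root_neg, root_neg, hr]; abel
      · push Not at hex
        have hgα : g ≠ α := by
          rintro rfl
          have := T.pos g
          rcases T.hm with rfl | rfl <;> omega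
        have hgns : g ∉ b.support := fun hs => by
          rw [h.zero g hs hgα] at hg
          omega
        obtain ⟨j, hj, hjp', -, -⟩ := exists_sub_simple hgpos hgns
        have hjα : j = α := by
          by_contra hjα
          have := hex j hj hjα
          omega
        rw [hjα] at hjp'
        obtain ⟨hgα1, -, -⟩ := T.exists_sub hgl hgα hjp'
        by_cases hgμ : g = μ
        · rwa [hgμ]
        -- `(g, μ) > 0`
        have h1 := len_swap (P := P) g α
        rw [hgα1, hαl, hgl] at h1
        have hℓ := T.pos g
        have h2 : P.pairing α g = m := by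
          have h3 : (P.pairing α g - m) * ℓ = 0 := by linarith
          rcases mul_eq_zero.mp h3 with h4 | h4 <;> omega
        have h3 : P.pairing μ g = P.pairing α g + P.pairing (P.reflectionPerm α μ) g := by
          have h4 : (1 : ℤ) • P.root α + (1 : ℤ) • P.root (P.reflectionPerm α μ) = P.root μ := by
            rw [hδ]; module
          have h5 := pairing_of_root_eq h4 g
          rw [h5]; ring
        have h4 := T.short_pairing (e := P.reflectionPerm α μ) (f := g) hδl
          (by rintro h5; rw [h5] at hxδ; omega)
          (by rintro h5; rw [h5, x_neg] at hxδ; omega)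
        have h5 := T.short_pairing (e := μ) (f := g) hμl (fun e => hgμ e.symm)
          (by
            intro h5
            rw [h5, x_neg] at hμ
            omega)
        have hm := T.hm
        have h6 : 0 < P.pairing g μ := by
          rw [pairing_pos_comm]
          omega
        obtain ⟨-, hκl, hκ⟩ := T.exists_sub hgl hgμ h6
        have hxg := h.val hgpos
        have hκS : P.reflectionPerm (P.reflectionPerm μ g) (P.reflectionPerm μ g) ∈ S := by
          by_cases hxκ : 0 < x (P.root (P.reflectionPerm μ g))
          · refine ih _ hκl hxκ ?_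
            rw [b.isPos_iff] at hμpos
            rw [b.height_sub hκ]
            omega
          · apply h.sub
            rw [x_neg]
            omega
        refine K214.ParComb.mem_of_short T hcl hκS hμS ?_ (by rw [len_neg, hgl])
        rw [root_neg, root_neg, root_neg, hκ]; abel

end K214.ParComb
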