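import Groth.Agent.ParSch.K214.Coord
import Groth.Agent.ParSch.K214.ParComb2

/-!
# Vanishing of structure constants in the edge case

If the characteristic is the multiplicity `m` of the edge, the long roots do not occur in the commutator of
`u_a(x)` and `u_b(ε)` for `a, b` short.
-/

set_option autoImplicit false
universe u
open CategoryTheory AlgebraicGeometry Polynomial

namespace K214.LongZero

open Groth.Agent.Sga3B Groth.Agent.Sga3B.Cell Groth.Agent.Sga3B.Cell.Datum
  Groth.Agent.Sga3B.PinMod K214.ChevDual K214.ChevPts K214.ChainComb K214.PairComb K214.Brk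
  K214.ParComb K214.Coord K803.HtOne K803.Lie K803.RComb

section comb

variable {ι M N : Type*} [Fintype ι] [AddCommGroup M] [AddCommGroup N] {P : RootPairing ι ℤ M N}
  [P.IsReduced] {m ℓ : ℤ} (T : Two P m ℓ)

include T in
/-- the three configurations -/
theorem cases {a b e : ι} (hLI : LI P a b) (ha : len P a = ℓ) (hb : len P b = ℓ)
    (he : len P e = m * ℓ) {i : ℕ} (hi : i ≠ 0) (hr : i • P.root a + P.root b = P.root e) :
    ∃ b₀ : ι, Ind P a b₀ ∧ P.pairing a b₀ = -1 ∧ e = P.reflectionPerm a b₀ ∧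
      ((m = 2 ∧ P.pairing b₀ a = -2 ∧ b = P.reflectionPerm b₀ a) ∨
       (m = 3 ∧ P.pairing b₀ a = -3 ∧ b = P.reflectionPerm b₀ a) ∨
       (m = 3 ∧ P.pairing b₀ a = -3 ∧ b = P.reflectionPerm a (P.reflectionPerm b₀ a))) := by
  have hr' : P.root e = P.root b + (i : ℤ) • P.root a := by
    rw [← hr, natCast_zsmul, add_comm]
  have hba : b ≠ a := by
    rintro rfl
    have := hLI 1 (-1) (by module)
    omega
  have hba' : b ≠ P.reflectionPerm a a := by
    intro h
    have := hLI 1 1 (by rw [h, K221.Prop.root_neg]; module)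
    omega
  have h1 := T.short_pairing hb hba hba'
  have h2 := pairing_of_root hr'
  have hLIe : LI P a e := hLI.of_root hr'
  obtain ⟨⟨h3, h3'⟩, -⟩ := pair_cases hLIe
  obtain ⟨⟨h4, h4'⟩, -⟩ := pair_cases hLIe.symm
  have h5 := len_swap (P := P) e a
  rw [ha, he] at h5
  have hℓ := T.pos e
  have h6 : P.pairing e a = P.pairing a e * m := by
    have h7 : (P.pairing e a - P.pairing a e * m) * ℓ = 0 := by linarith
    rcases mul_eq_zero.mp h7 with h8 | h8 <;> omega
  have hi1 : (1 : ℤ) ≤ i := by omega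
  have h7 : P.pairing e a = m := by
    rcases T.hm with rfl | rfl <;> omega
  -- the bottom of the string
  have hb₀ : P.root (P.reflectionPerm a e) = P.root e - m • P.root a := by
    rw [Brk.root_refl, h7]
  have hb₀' : P.root (P.reflectionPerm a e) = P.root b + ((i : ℤ) - m) • P.root a := by
    rw [hb₀, hr']; module
  have hLI₀ : LI P a (P.reflectionPerm a e) := hLI.of_root hb₀'
  have h8 : P.pairing (P.reflectionPerm a e) a = -m := by
    have h9 : P.root (P.reflectionPerm a e) = P.root e + (-m) • P.root a := by rw [hb₀]; module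
    rw [pairing_of_root h9, h7]; ring
  obtain ⟨-, h9, h10, -⟩ := pair_cases hLI₀
  have hab₀ : P.pairing a (P.reflectionPerm a e) = -1 := by
    rcases T.hm with hm | hm
    · exact h10 (by rw [h8, hm])
    · exact h9 (by rw [h8, hm])
  have hI : Ind P a (P.reflectionPerm a e) := ⟨hLI₀, by
    rintro ⟨f, hf⟩
    have hf' : P.root f = P.root (P.reflectionPerm a e) + (-1 : ℤ) • P.root a := by rw [hf]; module
    obtain ⟨⟨h11, -⟩, -⟩ := pair_cases (hLI₀.of_root hf')
    rw [pairing_of_root hf', h8] at h11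
    rcases T.hm with rfl | rfl <;> omega⟩
  have heq : e = P.reflectionPerm a (P.reflectionPerm a e) :=
    (RootPairing.reflectionPerm_self (P := P) a e).symm
  have hroot : P.root (P.reflectionPerm (P.reflectionPerm a e) a) =
      P.root a + P.root (P.reflectionPerm a e) := by
    rw [Brk.root_refl, hab₀]; module
  refine ⟨P.reflectionPerm a e, hI, hab₀, heq, ?_⟩
  have hcase : (m = 2 ∧ (i : ℤ) = 1) ∨ (m = 3 ∧ (i : ℤ) = 2) ∨ (m = 3 ∧ (i : ℤ) = 1) := by
    rcases T.hm with rfl | rfl <;> omega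
  rcases hcase with ⟨hm, hi2⟩ | ⟨hm, hi2⟩ | ⟨hm, hi2⟩
  · refine Or.inl ⟨hm, by rw [h8, hm], P.root.injective ?_⟩
    rw [hroot, hb₀', hi2, hm]; module
  · refine Or.inr (Or.inl ⟨hm, by rw [h8, hm], P.root.injective ?_⟩)
    rw [hroot, hb₀', hi2, hm]; module
  · refine Or.inr (Or.inr ⟨hm, by rw [h8, hm], P.root.injective ?_⟩)
    have h12 : P.root (P.reflectionPerm (P.reflectionPerm a e) a) =
        P.root (P.reflectionPerm a e) + (1 : ℤ) • P.root a := by
      rw [hroot]; module
    have h13 := pairing_of_root h12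
    rw [Brk.root_refl a, h13, hroot, hb₀', h8, hi2, hm]; module

end comb

variable {k : Type u} [Field k] {G : Over (Spec (CommRingCat.of k))} [GrpObj G]
  {D : Red.SplitRed G} {c : Chart G (𝟙 (Spec (CommRingCat.of k)))}
  {vd : D.idx → (Red.Ga (Spec (CommRingCat.of k)) ⟶ G)} {σ : D.idx → D.idx → ℤ}

/-- the commutator of `u_a(1)` and `u_b(ε)` is in the root group of a short root -/
theorem com_short (H : Chv D D.u vd σ) (Δ : D.P.Base) {m ℓ : ℤ} (T : Two D.P m ℓ)
    (hmk : (m : k) = 0) {a b e : D.idx} (hLI : LI D.P a b) (ha : len D.P a = ℓ)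
    (hb : len D.P b = ℓ) (he : len D.P e = m * ℓ) {i : ℕ} (hi : i ≠ 0)
    (hr : i • D.P.root a + D.P.root b = D.P.root e) (B : Type u) [CommRing B] [Algebra k B] (y : B) :
    ∃ (d : D.idx) (z : B), len D.P d = ℓ ∧ com D c a b 1 y = (c.datum D).uu d B (z * y) := by
  have hred := K803.Split.isReduced D
  obtain ⟨b₀, hI, pab, he', h⟩ := cases T hLI ha hb he hi hr
  have hmB : ((m : ℤ) : B) = 0 := by
    have := congrArg (algebraMap k B) hmk
    rwa [map_intCast, map_zero] at this
  rcases h with ⟨hm, pba, hb'⟩ | ⟨hm, pba, hb'⟩ | ⟨hm, pba, hb'⟩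
  · have h2 : (2 : B) = 0 := by
      rw [hm] at hmB
      exact_mod_cast hmB
    have key := (b2_chart c H Δ hI pba pab B 1 ((σ b₀ a : B) * y)).2
    simp only [uu_eq] at key
    rw [← mul_assoc (σ b₀ a : B), Chv.sgn_sq H, one_mul, h2, zero_mul, zero_mul, mul_zero,
      (c.datum D).uu_zero] at key
    refine ⟨a, 0, ha, ?_⟩
    have h3 : com D c b a y 1 = 1 := by rw [hb']; exact key
    rw [com_swap, h3, inv_one, zero_mul]
    exact ((c.datum D).uu_zero a).symm
  · have h3 : (3 : B) = 0 := by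
      rw [hm] at hmB
      exact_mod_cast hmB
    have key := (g2_chart c H Δ hI pba pab B _ _ _ _ (fun _ => rfl) (fun _ => rfl)
      (fun _ => rfl) (fun _ => rfl) 1 ((σ b₀ a : B) * y)).2.1
    simp only [uu_eq] at key
    rw [← mul_assoc (σ b₀ a : B), Chv.sgn_sq H, one_mul] at key
    simp only [h3, zero_mul, neg_zero, mul_zero, (c.datum D).uu_zero] at key
    refine ⟨D.P.reflectionPerm a (D.P.reflectionPerm b₀ a),
      -((σ a (D.P.reflectionPerm b₀ a) : B) * ((σ b₀ a : B) * (2 * 1 * (σ b₀ a : B)))),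
      by rw [len_refl, len_refl, ha], ?_⟩
    have h4 : com D c b a y 1 = (c.datum D).uu (D.P.reflectionPerm a (D.P.reflectionPerm b₀ a)) B
        ((σ a (D.P.reflectionPerm b₀ a) : B) *
          ((σ b₀ a : B) * (2 * 1 * ((σ b₀ a : B) * y)))) := by
      rw [hb']
      refine key.trans ?_
      exact (mul_one _).trans (mul_one _)
    rw [com_swap, h4, uu_inv]
    congr 1
    ring
  · have h3 : (3 : B) = 0 := by
      rw [hm] at hmB
      exact_mod_cast hmB
    have key := (g2_chart c H Δ hI pba pab B _ _ _ _ (fun _ => rfl) (fun _ => rfl)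
      (fun _ => rfl) (fun _ => rfl) 1
      ((σ b₀ a : B) * ((σ a (D.P.reflectionPerm b₀ a) : B) * y))).2.2
    simp only [uu_eq] at key
    have e1 : (σ a (D.P.reflectionPerm b₀ a) : B) * ((σ b₀ a : B) *
        ((σ b₀ a : B) * ((σ a (D.P.reflectionPerm b₀ a) : B) * y))) = y := by
      have h1 := Chv.sgn_sq H b₀ a B
      have h2 := Chv.sgn_sq H a (D.P.reflectionPerm b₀ a) B
      linear_combination ((σ a (D.P.reflectionPerm b₀ a) : B) ^ 2 * y) * h1 + y * h2
    rw [e1] at key
    simp only [h3, zero_mul, neg_zero, mul_zero, (c.datum D).uu_zero] at key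
    refine ⟨a, 0, ha, ?_⟩
    have h4 : com D c b a y 1 = 1 := by rw [hb']; exact key
    rw [com_swap, h4, inv_one, zero_mul]
    exact ((c.datum D).uu_zero a).symm

/-- the coefficients of the long roots vanish -/
theorem coeff_long (H : Chv D D.u vd σ) (Δ : D.P.Base) {m ℓ : ℤ} (T : Two D.P m ℓ)
    (hmk : (m : k) = 0) {a b : D.idx} (hLI : LI D.P a b) (ha : len D.P a = ℓ)
    (hb : len D.P b = ℓ) {L : List D.idx} (hL : L.Nodup) (hL' : ∀ b, b ∈ L) {C : D.idx → k}
    {d : D.idx → ℕ}
    (hC : ∀ e, C e ≠ 0 → d e ≠ 0 ∧ d e • D.P.root a + D.P.root b = D.P.root e)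
    (hv : ∀ (B : Type u) [CommRing B] [Algebra k B] (x ε : B), ε * ε = 0 →
        (c.datum D).uu a B x * (c.datum D).uu b B ε * ((c.datum D).uu a B x)⁻¹ *
          ((c.datum D).uu b B ε)⁻¹ =
          (c.datum D).cell L (fun e => algebraMap k B (C e) * (x ^ d e * ε)) 1)
    {e : D.idx} (he : len D.P e = m * ℓ) : C e = 0 := by
  by_contra hne
  obtain ⟨hi, hr⟩ := hC e hne
  let ε : DualNumber k := DualNumber.eps
  have hε : ε * ε = 0 := DualNumber.eps_mul_eps
  obtain ⟨d', z, hd', hcom⟩ := com_short (c := c) H Δ T hmk hLI ha hb he hi hr (DualNumber k) ε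
  have h1 := (hv (DualNumber k) 1 ε hε).symm.trans hcom
  let K : Ideal (DualNumber k) := Ideal.span {ε}
  have hK : K * K = ⊥ := by
    rw [Ideal.span_mul_span, Set.singleton_mul_singleton, hε, Ideal.span_singleton_eq_bot]
  have hmem : ε ∈ K := Ideal.subset_span (Set.mem_singleton _)
  rw [Datum.cell, map_one, mul_one] at h1
  have hed : e ≠ d' := by
    rintro rfl
    have := T.pos e
    rcases T.hm with rfl | rfl <;> omega
  have h2 := coord_zero (D := c.datum D) hK hL hL'
    (fun b => Ideal.mul_mem_left _ _ (Ideal.mul_mem_left _ _ hmem))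
    (Ideal.mul_mem_left _ z hmem) h1 (e := e) hed
  rw [one_pow, one_mul] at h2
  have h3 : algebraMap k (DualNumber k) (C e) *
      (algebraMap k (DualNumber k) (1 : k) * DualNumber.eps) = 0 := by
    rw [map_one, one_mul]
    exact h2
  exact hne (eq_zero_of_mul_eps one_ne_zero h3)

end K214.LongZero
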