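import Groth.Agent.ParSch.K214.Brk2

/-!
# Sums of tangent roots of a closed subgroup functor
-/

set_option autoImplicit false
universe u
open CategoryTheory AlgebraicGeometry

namespace K214.TanAdd

open Groth.Agent.Sga3B Groth.Agent.Sga3B.Cell Groth.Agent.Sga3B.Cell.Datum
  Groth.Agent.Sga3B.PinMod K214.ChevDual K214.ChainComb K214.Brk K803.HtOne K803.Lie

lemma li_of_add {ι M N : Type*} [AddCommGroup M] [AddCommGroup N] [Finite ι]
    {P : RootPairing ι ℤ M N} [P.IsReduced] {x y e : ι}
    (he : P.root e = P.root x + P.root y) : LI P x y := by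
  intro r s h
  by_contra hcon
  have hli : ¬ LinearIndependent ℤ ![P.root x, P.root y] := by
    intro h1
    exact hcon ((LinearIndependent.pair_iff.mp h1) r s h)
  have hxy : x ≠ y := by
    rintro rfl
    have h2 := RootChar876.eq_of_smul_root_eq P e x 1 2 one_ne_zero two_ne_zero
      (by rw [he]; push_cast; module)
    rw [h2] at he
    exact P.ne_zero x (by simpa using he)
  rcases RootPairing.IsReduced.eq_or_eq_neg (P := P) x y hli with h1 | h1
  · exact hxy (P.root.injective h1)
  · exact P.ne_zero e (by rw [he, h1]; simp)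

section dual

variable (k : Type u) [Field k]

/-- `k[ε, δ]` -/
abbrev DD : Type u := DualNumber (DualNumber k)

/-- `ε` -/
noncomputable def ep : DD k := TrivSqZeroExt.inl DualNumber.eps

/-- `δ` -/
noncomputable def de : DD k := DualNumber.eps

lemma ep_sq : ep k * ep k = 0 := by
  rw [ep, ← TrivSqZeroExt.inl_mul, DualNumber.eps_mul_eps, TrivSqZeroExt.inl_zero]

lemma de_sq : de k * de k = 0 := DualNumber.eps_mul_eps

variable {k}

lemma eq_zero_of_mul {r s : k} (hs : s ≠ 0)
    (h : algebraMap k (DD k) r * (algebraMap k (DD k) s * (ep k * de k)) = 0) : r = 0 := by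
  have h1 := congrArg (fun z => TrivSqZeroExt.snd (TrivSqZeroExt.snd z)) h
  have h2 : TrivSqZeroExt.snd (TrivSqZeroExt.snd
      (algebraMap k (DD k) r * (algebraMap k (DD k) s * (ep k * de k)))) = r * s := by
    have e1 : algebraMap k (DD k) r * (algebraMap k (DD k) s * (ep k * de k)) =
        (r * s) • (ep k * de k) := by
      rw [← mul_assoc, ← map_mul]
      exact (Algebra.smul_def (R := k) (A := DD k) (r * s) (ep k * de k)).symm
    rw [e1, TrivSqZeroExt.snd_smul, TrivSqZeroExt.snd_smul]
    simp [ep, de]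
  have h3 : r * s = 0 := h2.symm.trans h1
  exact (mul_eq_zero.mp h3).resolve_right hs

end dual

variable {k : Type u} [Field k] {G : Over (Spec (CommRingCat.of k))} [GrpObj G]
  {D : Red.SplitRed G} {c : Chart G (𝟙 (Spec (CommRingCat.of k)))}
  {vd : D.idx → (Red.Ga (Spec (CommRingCat.of k)) ⟶ G)} {σ : D.idx → D.idx → ℤ}
  {I : Ideal c.A} {S : ∀ (B : Type u) [CommRing B] [Algebra k B], Subgroup (Pt k c.A B)}

/-- **Lie bracket of root vectors of a closed subgroup functor.** -/
theorem tan_add (H : Chv D D.u vd σ) (Δ : D.P.Base) (hS : Cut I S) {x y e : D.idx}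
    (he : D.P.root e = D.P.root x + D.P.root y) (hx : Tan D I x) (hy : Tan D I y)
    (hnz : ∀ n : ℤ, Kind D.P x y e n → (n : k) ≠ 0) : Tan D I e := by
  have hred := K803.Split.isReduced D
  obtain ⟨n, hn, hk⟩ := exists_const (c := c) H Δ (li_of_add he) he
  have h0 := hnz n hk
  have h1 := mem_of_tan (B := DD k) hS hx (ep_sq k)
  have h2 := mem_of_tan (B := DD k) hS hy (de_sq k)
  have h3 : com D c x y (ep k) (de k) ∈ S (DD k) :=
    mul_mem (mul_mem (mul_mem h1 h2) (inv_mem h1)) (inv_mem h2)
  rw [hn (DD k) (ep k) (de k) (ep_sq k) (de_sq k)] at h3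
  have h4 : ((n : DD k) * (ep k * de k)) * ((n : DD k) * (ep k * de k)) = 0 := by
    have := ep_sq k
    linear_combination ((n : DD k) * (n : DD k) * (de k * de k)) * this
  intro f hf
  have h5 := tan_of_mem hS h4 h3 hf
  have h6 : ((n : DD k)) = algebraMap k (DD k) (n : k) := by rw [map_intCast]
  rw [h6] at h5
  exact eq_zero_of_mul h0 h5

end K214.TanAdd
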