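import Groth.Agent.ParSch.K214.ExTan
import Groth.Agent.ParSch.K214.ConjAll
import Groth.Agent.ParSch.K214.Core
import Groth.Agent.ParSch.K214.Cases
import Groth.Agent.ParSch.K214.TanAdd
import Groth.Agent.Red.K214.ZModel

/-!
# The infinitesimal neighbourhood of a root group lies in a non-reduced maximal parabolic
-/

set_option autoImplicit false
universe u

open CategoryTheory AlgebraicGeometry

namespace K214.Main

open Groth.Agent.Sga3B Groth.Agent.Sga3B.Cell Groth.Agent.Sga3B.PinMod Groth.Agent.Sga3B.Parab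
open K803.SubPt K803.Lie K803.HtOne K803.RComb K214.ChevDual K214.ParComb K214.RedPart K214.ExTan
open K214.ConjAll K214.Core K214.Cases K214.Brk K214.TanAdd K221.Conn

variable {k : Type u} [Field k] {G : Over (Spec (CommRingCat.of k))} [GrpObj G]

/-- a splitting with the same torus and a Chevalley system -/
theorem exists_chv (D : Red.SplitRed G) :
    ∃ (v vd : D.idx → (Red.Ga (Spec (CommRingCat.of k)) ⟶ G)) (σ : D.idx → D.idx → ℤ)
      (hv : ∀ c, Red.IsRootHom D.i (D.split.hom.hom.hom ≫ Red.chi _ (D.P.root c)) (v c)),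
      Chv (withU D v hv) (withU D v hv).u vd σ := by
  have hred : D.P.IsReduced := K803.Split.isReduced D
  obtain ⟨b⟩ := BaseZ.nonempty_base D.P
  let D' : Red.Pinning G := { D with base := b }
  obtain ⟨v, vd, h, -⟩ := K214.ZModel.exists_chev D'
  choose σ hσ hconj using h.conj
  exact ⟨v, vd, σ, h.rootHom, ⟨h.rootHom, h.isMonHom, h.rule, hσ, hconj⟩⟩

variable {D : Red.SplitRed G} {c : Chart G (𝟙 (Spec (CommRingCat.of k)))}
  {vd : D.idx → (Red.Ga (Spec (CommRingCat.of k)) ⟶ G)} {σ : D.idx → D.idx → ℤ}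
  {P Q : Over (Spec (CommRingCat.of k))} [GrpObj P] [GrpObj Q] {iP : P ⟶ G} {j : Q ⟶ G}
  [IsMonHom iP] [IsMonHom j] [IsClosedImmersion iP.left] [IsClosedImmersion j.left]
  {x : Module.Dual ℤ D.M}

/-- **The main step.** -/
theorem exists_conj_mem (H : Chv D D.u vd σ) (hirr : Irr D.P) [IsReduced Q.left]
    (hQP : Set.range j.left.base = Set.range iP.left.base) (hj : IsDynP (Par.coch D x) j)
    (hred : ¬ IsReduced P.left) (Δ : D.P.Base) {α : D.idx} (hα : α ∈ Δ.support)
    (hxα : 0 < x (D.P.root α)) (hx : ∀ i ∈ Δ.support, i ≠ α → x (D.P.root i) = 0)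
    (h4 : (2 : k) = 0 → ∀ a b, D.P.pairing a b = -3 → D.P.pairing b a = -1 → False)
    (c : Chart G (𝟙 (Spec (CommRingCat.of k)))) :
    ∃ b : D.idx, ∀ (B : Type u) [CommRing B] [Algebra k B] (ε : B), ε * ε = 0 →
      ∀ g : Pt k c.A B, g * (c.datum D).uu b B ε * g⁻¹ ∈ sub c iP B := by
  classical
  have hDr : D.P.IsReduced := K803.Split.isReduced D
  have himono : Mono iP := Over.mono_of_mono_left iP
  obtain ⟨I, hI⟩ := exists_ideal c iP
  have hI' : Cut I (fun B _ _ => sub c iP B) := hI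
  obtain ⟨f, hf⟩ := K214.Setup.exists_lift iP j hQP.le
  have hle : ∀ (B : Type u) [CommRing B] [Algebra k B], sub c j B ≤ sub c iP B :=
    (exists_hom_iff c j iP).1 ⟨f, hf⟩
  have hε : (DualNumber.eps : DualNumber k) * DualNumber.eps = 0 := DualNumber.eps_mul_eps
  have hT : ∀ (B : Type u) [CommRing B] [Algebra k B] (t : TPt D.M B),
      (c.datum D).i B t ∈ sub c iP B := fun B _ _ t => hle B (torus_mem hj t)
  have hdat : Dat Δ α x {a | Tan D I a} := by
    refine ⟨hα, hxα, hx, ?_, ?_⟩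
    · intro e he f hf
      have h1 := hle _ (root_mem (c := c) hj he (DualNumber.eps : DualNumber k))
      have h2 := tan_of_mem hI' hε h1 hf
      refine eq_zero_of_mul_eps (s := 1) one_ne_zero ?_
      rw [map_one, _root_.one_mul]
      exact h2
    · obtain ⟨a, ha, ha'⟩ := exists_tan hQP hj hI' hred
      exact ⟨a, ha', ha⟩
  by_cases hedge : ∃ (m : ℤ) (a b : D.idx), (m = 2 ∨ m = 3) ∧ (m : k) = 0 ∧
      D.P.pairing a b = -m ∧ D.P.pairing b a = -1
  · obtain ⟨m, a, b, hm, hmk, hab, hba⟩ := hedge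
    have T := two_of_edge hirr hm hab hba
    refine ⟨b, fun B _ _ ε hε g => ?_⟩
    refine conj_mem_of_short H T hmk hI' hT (fun e he => ?_) rfl B ε hε g
    refine hdat.mem_of_short T ?_ hirr he
    intro e he f hf g hg hlen
    exact tan_add H Δ hI' hg he hf fun n hn => ne_zero_of_two T hmk hn hlen
  · push Not at hedge
    obtain ⟨b⟩ : Nonempty D.idx := ⟨α⟩
    refine ⟨b, fun B _ _ ε hε g => ?_⟩
    refine conj_mem_of_all hI' hT (fun e => ?_) b B ε hε g
    refine hdat.mem_of_closed ?_ e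
    intro e he f hf g hg
    refine tan_add H Δ hI' hg he hf fun n hn => ne_zero_of_kind ?_ ?_ h4 hn
    · intro h2 a b hab hba
      exact hedge 2 a b (Or.inl rfl) (by exact_mod_cast h2) hab hba
    · intro h2 a b hab hba
      exact hedge 3 a b (Or.inr rfl) (by exact_mod_cast h2) hab hba

end K214.Main
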