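import Groth.Agent.ParSch.K803.RComb

/-!
# Sets of roots containing the roots of a maximal parabolic subgroup

`b` a base, `α` a simple root, `x` a functional positive on `α` and zero on the other simple roots, `S` a set
of roots containing the roots with `x ≥ 0` and a root with `x < 0`.
-/

set_option autoImplicit false

open RootPairing

namespace K214.ParComb

open K221.Prop K221.Form K221.Conn K803.RComb

variable {ι M N : Type*} [Finite ι] [AddCommGroup M] [AddCommGroup N] {P : RootPairing ι ℤ M N}
  [P.IsReduced]

/-- the data of a maximal parabolic set of roots -/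
structure Dat (b : P.Base) (α : ι) (x : M →ₗ[ℤ] ℤ) (S : Set ι) : Prop where
  mem : α ∈ b.support
  pos : 0 < x (P.root α)
  zero : ∀ j ∈ b.support, j ≠ α → x (P.root j) = 0
  sub : ∀ e, 0 ≤ x (P.root e) → e ∈ S
  ex : ∃ e ∈ S, x (P.root e) < 0

variable {b : P.Base} {α : ι} {x : M →ₗ[ℤ] ℤ} {S : Set ι} (h : Dat b α x S)

omit [P.IsReduced] in
include h in
lemma Dat.val {e : ι} (he : b.IsPos e) : x (P.root e) = 0 ∨ x (P.root α) ≤ x (P.root e) := by
  refine he.induction_on_add (p := fun e => x (P.root e) = 0 ∨ x (P.root α) ≤ x (P.root e)) ?_ ?_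
  · intro j hj
    by_cases hjα : j = α
    · exact Or.inr (by rw [hjα])
    · exact Or.inl (h.zero j hj hjα)
  · intro i j k hk hi hj
    have h0 := h.pos
    rw [hk, map_add]
    by_cases hjα : j = α
    · rw [hjα]
      rcases hi with hi | hi <;> right <;> omega
    · rw [h.zero j hj hjα]
      rcases hi with hi | hi
      · left; omega
      · right; omega

omit [P.IsReduced] in
include h in
lemma Dat.nonneg {e : ι} (he : b.IsPos e) : 0 ≤ x (P.root e) := by
  have := h.pos
  rcases h.val he with h1 | h1 <;> omega

omit [Finite ι] [P.IsReduced] in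
lemma x_neg (e : ι) : x (P.root (P.reflectionPerm e e)) = - x (P.root e) := by
  rw [root_neg, map_neg]

omit [P.IsReduced] in
include h in
lemma Dat.isPos {e : ι} (he : 0 < x (P.root e)) : b.IsPos e := by
  rcases Base.IsPos.or_neg b e with h1 | h1
  · exact h1
  · have h2 := h.nonneg h1
    change 0 ≤ x (P.root (P.reflectionPerm e e)) at h2
    rw [x_neg] at h2
    omega

omit [Finite ι] [P.IsReduced] in
include h in
lemma Dat.neg_mem {j : ι} (hj : j ∈ b.support) (hjα : j ≠ α) : P.reflectionPerm j j ∈ S := by
  apply h.sub
  rw [x_neg, h.zero j hj hjα]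
  rfl

omit [Finite ι] [P.IsReduced] in
lemma neg_root_add {i j k : ι} (hk : P.root k = P.root i + P.root j) :
    P.root (P.reflectionPerm k k) = P.root (P.reflectionPerm i i) + P.root (P.reflectionPerm j j) := by
  rw [root_neg, root_neg, root_neg, hk]; abel

omit [P.IsReduced] in
/-- descent: a positive root which is not simple minus a simple root -/
lemma exists_sub_simple {e : ι} (he : b.IsPos e) (hne : e ∉ b.support) :
    ∃ j ∈ b.support, 0 < P.pairing e j ∧ ∃ k, b.IsPos k ∧ b.height k < b.height e ∧
      P.root k = P.root e - P.root j := by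
  obtain ⟨j, hj, hj'⟩ := he.exists_mem_support_pos_pairingIn
  rw [pairingIn_eq, pairing_pos_comm] at hj'
  have hej : e ≠ j := fun h => hne (h ▸ hj)
  obtain ⟨k, hk⟩ := exists_sub P hj' hej
  refine ⟨j, hj, hj', k, he.sub hj hk, ?_, hk⟩
  rw [b.height_sub hk, b.height_one_of_mem_support hj]
  omega

omit [P.IsReduced] in
include h in
/-- if sums `e + f`, `e, f ∈ S`, `x e < 0` are in `S` then the opposite of `α` is in `S` -/
lemma Dat.neg_simple_mem (hcl : ∀ e ∈ S, x (P.root e) < 0 → ∀ f ∈ S, ∀ g, P.root g = P.root e + P.root f →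
    g ∈ S) : P.reflectionPerm α α ∈ S := by
  obtain ⟨e, he, hxe⟩ := h.ex
  have key : ∀ n : ℕ, ∀ g : ι, 0 < x (P.root g) → P.reflectionPerm g g ∈ S → b.height g ≤ n →
      P.reflectionPerm α α ∈ S := by
    intro n
    induction n with
    | zero =>
      intro g hg _ hn
      have := h.isPos hg
      rw [b.isPos_iff] at this
      omega
    | succ n ih =>
      intro g hg hgS hn
      have hpos := h.isPos hg
      by_cases hs : g ∈ b.support
      · by_cases hgα : g = α
        · rwa [hgα] at hgS
        · rw [h.zero g hs hgα] at hg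
          exact absurd hg (lt_irrefl _)
      · obtain ⟨j, hj, hjp, k, hkpos, hkh, hk⟩ := exists_sub_simple hpos hs
        have hxg : x (P.root (P.reflectionPerm g g)) < 0 := by rw [x_neg]; omega
        by_cases hxk : 0 < x (P.root k)
        · refine ih k hxk ?_ (by omega)
          refine hcl _ hgS hxg j (h.sub j (h.nonneg (Base.isPos_of_mem_support hj))) _ ?_
          rw [root_neg, root_neg, hk]; abel
        · have hk0 := h.nonneg hkpos
          have hxk0 : x (P.root k) = 0 := by omega
          have hjα : j = α := by
            by_contra hjα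
            have := h.zero j hj hjα
            rw [hk, map_sub, this] at hxk0
            omega
          refine hcl _ hgS hxg k (h.sub k hk0) _ ?_
          rw [root_neg, root_neg, hk, hjα]; abel
  have hpos : 0 < x (P.root (P.reflectionPerm e e)) := by rw [x_neg]; omega
  have hee : P.reflectionPerm (P.reflectionPerm e e) (P.reflectionPerm e e) ∈ S := by
    rwa [neg_neg_idx]
  exact key (b.height (P.reflectionPerm e e)).toNat _ hpos hee (by omega)

omit [P.IsReduced] in
include h in
/-- **Case I.** If `S` is closed it contains all roots. -/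
theorem Dat.mem_of_closed (hcl : ∀ e ∈ S, ∀ f ∈ S, ∀ g, P.root g = P.root e + P.root f → g ∈ S) (e : ι) :
    e ∈ S := by
  have hα := h.neg_simple_mem fun e he _ f hf g hg => hcl e he f hf g hg
  have hΔ : ∀ j ∈ b.support, P.reflectionPerm j j ∈ S := by
    intro j hj
    by_cases hjα : j = α
    · rwa [hjα]
    · exact h.neg_mem hj hjα
  have key : ∀ g, b.IsPos g → P.reflectionPerm g g ∈ S := by
    intro g hg
    refine hg.induction_on_add (p := fun g => P.reflectionPerm g g ∈ S) hΔ ?_
    intro i j k hk hi hj
    exact hcl _ hi _ (hΔ j hj) _ (neg_root_add hk)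
  rcases Base.IsPos.or_neg b e with h1 | h1
  · exact h.sub e (h.nonneg h1)
  · have := key _ h1
    change P.reflectionPerm (P.reflectionPerm e e) (P.reflectionPerm e e) ∈ S at this
    rwa [neg_neg_idx] at this

end K214.ParComb
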