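import Groth.Agent.ParSch.K214.Setup
import Groth.Agent.ParSch.K803.HtOne
import Groth.Agent.Agf.H613.TwGlue
import Groth.Agent.Sga3B.Parab.DynCell998

/-!
# A closed subgroup scheme with reduced part `P_G(x)`: tangent vectors outside `P_G(x)`

`iP : P ⟶ G` a closed subgroup scheme whose underlying set is that of `j : Q ⟶ G`, `Q = P_G(x)`.
If `P` is not reduced then there is a root vector of weight `x < 0` tangent to `P`.
-/

set_option autoImplicit false
universe u

open CategoryTheory AlgebraicGeometry MonoidalCategory CartesianMonoidalCategory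
open scoped MonObj GrpObj

namespace K214.RedPart

open Groth.Agent.Sga3B Groth.Agent.Sga3B.Cell Groth.Agent.Sga3B.PinMod Groth.Agent.Sga3B.Parab
open Groth.Agent.Sga3B.Parab.DynInter998 Groth.Agent.Sga3B.Parab.DynCell998
open K803.SubPt K803.Lie K803.HtOne K844.BorSet

variable {k : Type u} [Field k] {G : Over (Spec (CommRingCat.of k))} [GrpObj G]
  (c : Chart G (𝟙 (Spec (CommRingCat.of k))))

section dyn

variable {lam : Red.Gm (Spec (CommRingCat.of k)) ⟶ G} [IsMonHom lam] [IsAffineHom G.hom]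
  {Q U : Over (Spec (CommRingCat.of k))} [GrpObj Q] [GrpObj U] {j : Q ⟶ G} {v : U ⟶ G}

omit [IsMonHom lam] [IsAffineHom G.hom] in
lemma mem_sub_dynP [IsMonHom j] (hj : IsDynP lam j) {B : Type u} [CommRing B] [Algebra k B]
    {g : Pt k c.A B} : g ∈ sub c j B ↔ PtP lam (c.pts B g) := by
  rw [mem_sub, hj.iff_ptP]

omit [IsMonHom lam] [IsAffineHom G.hom] in
lemma mem_sub_dynU [IsMonHom v] (hv : IsDynU lam v) {B : Type u} [CommRing B] [Algebra k B]
    {g : Pt k c.A B} : g ∈ sub c v B ↔ PtU lam (c.pts B g) := by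
  rw [mem_sub, hv.iff_ptU]

lemma eq_one_of_mem [IsMonHom j] [IsMonHom v] (hj : IsDynP lam j) (hv : IsDynU (negLam lam) v)
    {B : Type u} [CommRing B] [Algebra k B]
    {g : Pt k c.A B} (h : g ∈ sub c j B) (h' : g ∈ sub c v B) : g = 1 := by
  rw [mem_sub_dynP c hj] at h
  rw [mem_sub_dynU c hv] at h'
  apply (c.pts B).injective
  rw [map_one]
  exact eq_one_of_ptU_ptP h' h

end dyn

/-- a closed subscheme all of whose points with values in domains are trivial is infinitesimal -/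
theorem isNilpotent_of {A : Type u} [CommRing A] [Algebra k A] [PtGrp k A] [IsNoetherianRing A]
    (I : Ideal A) (h : ∀ (B : Type u) [CommRing B] [Algebra k B] [IsDomain B] (g : Pt k A B),
      (∀ f ∈ I, g.hom f = 0) → g = 1) :
    IsNilpotent ((RingHom.ker ((1 : Pt k A k).hom : A →+* k)).map (Ideal.Quotient.mk I)) := by
  have h1 : RingHom.ker ((1 : Pt k A k).hom : A →+* k) ≤ I.radical := by
    rw [Ideal.radical_eq_sInf]
    refine le_sInf fun p hp => ?_
    obtain ⟨hp1, hp2⟩ := hp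
    intro f hf
    have h2 := h (A ⧸ p) (Pt.mk (Ideal.Quotient.mkₐ k p)) (fun f hf =>
      Ideal.Quotient.eq_zero_iff_mem.2 (hp1 hf))
    have h3 : (Ideal.Quotient.mkₐ k p) f = (1 : Pt k A (A ⧸ p)).hom f := by
      rw [← h2]
      rfl
    rw [one_hom, (RingHom.mem_ker.1 hf : (1 : Pt k A k).hom f = 0), map_zero] at h3
    exact Ideal.Quotient.eq_zero_iff_mem.1 h3
  obtain ⟨n, hn⟩ := Ideal.exists_pow_le_of_le_radical_of_fg h1 (IsNoetherian.noetherian _)
  refine ⟨n, ?_⟩
  rw [← Ideal.map_pow, Ideal.zero_eq_bot, eq_bot_iff, Ideal.map_le_iff_le_comap]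
  intro f hf
  exact Ideal.Quotient.eq_zero_iff_mem.2 (hn hf)

variable {P Q : Over (Spec (CommRingCat.of k))} [GrpObj P] [GrpObj Q] {iP : P ⟶ G} {j : Q ⟶ G}
  [IsMonHom iP] [IsMonHom j] [IsClosedImmersion iP.left] [IsClosedImmersion j.left]

omit [IsClosedImmersion iP.left] in
/-- points of `P` with values in reduced rings are points of `Q` -/
lemma mem_of_reduced (hQP : Set.range iP.left.base ⊆ Set.range j.left.base)
    {B : Type u} [CommRing B] [Algebra k B] [IsReduced (Spec (CommRingCat.of B))]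
    {g : Pt k c.A B} (hg : g ∈ sub c iP B) : g ∈ sub c j B := by
  obtain ⟨h, hh⟩ := hg
  have : IsReduced (tB (𝟙 (Spec (CommRingCat.of k))) B).left :=
    inferInstanceAs (IsReduced (Spec (CommRingCat.of B)))
  obtain ⟨l, hl⟩ := K214.Setup.exists_lift j (h ≫ iP) (by
    rintro _ ⟨y, rfl⟩
    apply hQP
    exact ⟨h.left y, by rw [Over.comp_left, Scheme.Hom.comp_apply]⟩)
  exact ⟨l, hl.trans hh⟩

omit [IsMonHom j] in
/-- if `P ∩ U_G(-x)` is trivial then `P` is reduced -/
theorem isReduced_of [IsAffineHom G.hom] [Smooth G.hom] [IsReduced Q.left]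
    (hQP : Set.range j.left.base = Set.range iP.left.base)
    {lam : Red.Gm (Spec (CommRingCat.of k)) ⟶ G} [IsMonHom lam] (hj : IsDynP lam j)
    {U : Over (Spec (CommRingCat.of k))} [GrpObj U] {v : U ⟶ G} (hv : IsDynU (negLam lam) v)
    (h : ∀ (X : Over (Spec (CommRingCat.of k))) (a : X ⟶ U) (b : X ⟶ P), a ≫ v = b ≫ iP → a ≫ v = 1) :
    IsReduced P.left := by
  have hjmono : Mono j := Over.mono_of_mono_left j
  have himono : Mono iP := Over.mono_of_mono_left iP
  have hvm := hv.isMonHom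
  obtain ⟨f, hf⟩ := K214.Setup.exists_lift iP j hQP.le
  have hop := isOpenImmersion_cell hj hv
  -- the cell contains `P`
  have h1 : Set.range iP.left.base ⊆ Set.range ((v ⊗ₘ j) ≫ MonObj.mul (X := G)).left.base := by
    rw [← hQP]
    have h2 : lift (1 : Q ⟶ U) (𝟙 Q) ≫ (v ⊗ₘ j) ≫ MonObj.mul (X := G) = j := by
      rw [DynLevi998.comp_mul_tensor, lift_fst_assoc, lift_snd_assoc, MonObj.one_comp, _root_.one_mul,
        Category.id_comp]
    rintro _ ⟨y, rfl⟩
    refine ⟨(lift (1 : Q ⟶ U) (𝟙 Q)).left y, ?_⟩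
    have h3 := congrArg (fun z => z.left y) h2
    dsimp only at h3
    rw [Over.comp_left, Scheme.Hom.comp_apply] at h3
    exact h3
  obtain ⟨l, hl⟩ : ∃ l : P ⟶ U ⊗ Q, l ≫ (v ⊗ₘ j) ≫ MonObj.mul (X := G) = iP := by
    refine ⟨Over.homMk (IsOpenImmersion.lift ((v ⊗ₘ j) ≫ MonObj.mul (X := G)).left iP.left h1) ?_, ?_⟩
    · have h2 := IsOpenImmersion.lift_fac ((v ⊗ₘ j) ≫ MonObj.mul (X := G)).left iP.left h1
      rw [← Over.w ((v ⊗ₘ j) ≫ MonObj.mul (X := G)), ← Category.assoc, h2, Over.w iP]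
    · ext1
      exact IsOpenImmersion.lift_fac _ _ _
  obtain ⟨a, b, hab⟩ := (exists_tensor_iff iP).1 ⟨l, hl⟩
  have h3 : a ≫ v = (𝟙 P * (b ≫ f)⁻¹) ≫ iP := by
    rw [MonObj.mul_comp, GrpObj.inv_comp, Category.assoc, hf, Category.id_comp, ← hab]
    group
  have h4 := h P a _ h3
  rw [h4, _root_.one_mul] at hab
  have h5 : b ≫ f = 𝟙 P := by
    rw [← cancel_mono iP, Category.assoc, hf, hab, Category.id_comp]
  have h6 : f ≫ b = 𝟙 Q := by
    rw [← cancel_mono j, Category.assoc, hab, hf, Category.id_comp]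
  have h7 : IsIso b.left := by
    refine ⟨f.left, ?_, ?_⟩
    · rw [← Over.comp_left, h5]; rfl
    · rw [← Over.comp_left, h6]; rfl
  exact isReduced_of_isOpenImmersion b.left

end K214.RedPart
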