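import Groth.Agent.RedSub.H652.SplitK
import Groth.Agent.RedSub.H671.IwaPt
import Groth.Agent.RedSub.H635.Uniq
import Groth.Agent.RedSub.H641.TypeRBc
import Groth.Agent.Par.K547.DynTools
import Groth.Agent.AGF.K844.BorSet
import Groth.Agent.ParSch.K803.GenBy
import Groth.Agent.ParSch.K214.Lin
import Groth.Agent.Sga3B.AlgBc2
import Groth.Agent.Flat2B.SmoothGeom
import Groth.Agent.Sga3.H826.CartStep

/-!
# Maximal parabolic subgroups over an algebraically closed field

`exists_max`: a maximal proper smooth closed subgroup scheme `Q` of a reductive group which is parabolic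
is `P_G(x)` for a coweight `x` of a splitting of `G` with torus in `Q`, positive on one simple root and zero
on the other simple roots.
-/

set_option autoImplicit false
universe u

open CategoryTheory AlgebraicGeometry

namespace K214.Setup

open Groth.Agent.Sga3B Groth.Agent.Sga3B.Parab Groth.Agent.Sga3B.Par K844.BorSet

variable {k : Type u} [Field k]

/-- factoring through a closed immersion -/
lemma exists_lift {X Y Z : Over (Spec (CommRingCat.of k))} (i : Y ⟶ Z) [IsClosedImmersion i.left]
    [IsReduced X.left] (f : X ⟶ Z) (h : Set.range f.left.base ⊆ Set.range i.left.base) :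
    ∃ l : X ⟶ Y, l ≫ i = f := by
  obtain ⟨l, hl⟩ := Groth.Agent.Sga3.H826.CartStep.exists_lift_of_range i.left f.left h
  refine ⟨Over.homMk l ?_, ?_⟩
  · rw [← Over.w i, ← Category.assoc, hl, Over.w f]
  · ext1
    exact hl

instance : Nonempty (Spec (CommRingCat.of k)) := inferInstance

variable {G : Over (Spec (CommRingCat.of k))} [GrpObj G]

/-- root groups of `P_G(x)` -/
lemma root_iff (D : Red.SplitRed G) {x : Module.Dual ℤ D.M} {P : Over (Spec (CommRingCat.of k))}
    [GrpObj P] {p : P ⟶ G} (hp : IsDynP (Par.coch D x) p) (a : D.idx) :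
    (∃ v : Red.Ga _ ⟶ P, v ≫ p = D.u a) ↔ 0 ≤ x (D.P.root a) := by
  rw [hp.iff_ptP, ptP_u_iff]

/-- the torus of `P_G(x)` -/
lemma exists_torus (D : Red.SplitRed G) {x : Module.Dual ℤ D.M} {P : Over (Spec (CommRingCat.of k))}
    [GrpObj P] {p : P ⟶ G} (hp : IsDynP (Par.coch D x) p) : ∃ t : D.T ⟶ P, t ≫ p = D.i := by
  rw [hp.iff_ptP]
  have h := ptP_torus D x (𝟙 D.T)
  rwa [Category.id_comp] at h

section comb

variable {ι M N : Type*} [Finite ι] [AddCommGroup M] [AddCommGroup N] {P : RootPairing ι ℤ M N}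

lemma nonneg_and {b : P.Base} {x y : M →ₗ[ℤ] ℤ} (hx : ∀ i ∈ b.support, 0 ≤ x (P.root i))
    (hy : ∀ i ∈ b.support, x (P.root i) = 0 → y (P.root i) = 0) (hy0 : ∀ i ∈ b.support, 0 ≤ y (P.root i))
    {e : ι} (he : b.IsPos e) :
    0 ≤ x (P.root e) ∧ (x (P.root e) = 0 → y (P.root e) = 0) ∧ 0 ≤ y (P.root e) := by
  refine he.induction_on_add (p := fun e => 0 ≤ x (P.root e) ∧ (x (P.root e) = 0 → y (P.root e) = 0) ∧
    0 ≤ y (P.root e)) ?_ ?_
  · intro j hj
    exact ⟨hx j hj, hy j hj, hy0 j hj⟩
  · intro i j k hk hi hj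
    rw [hk, map_add, map_add]
    have h1 := hx j hj
    have h2 := hy0 j hj
    refine ⟨by omega, fun h => ?_, by omega⟩
    have h3 : x (P.root i) = 0 := by omega
    have h4 : x (P.root j) = 0 := by omega
    rw [hi.2.1 h3, hy j hj h4, add_zero]

end comb

lemma isReduced_of_smooth (X : Over (Spec (CommRingCat.of k))) [Smooth X.hom] : IsReduced X.left :=
  Groth.Agent.Flat2B.SmoothGeom.isReduced_of_smooth X.hom

lemma hasConnectedFibres (H : Over (Spec (CommRingCat.of k))) [GrpObj H] [Smooth H.hom]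
    [ConnectedSpace H.left] : _root_.RedSub.HasConnectedFibres H := by
  have : GeometricallyIrreducible H.hom := K803.GenBy.geomIrr
  exact Groth.Agent.RedSub.H641.TypeRBc.hasConnectedFibres_of_geomIrr

variable [IsAlgClosed k]

theorem exists_max (hG : Red.IsReductive G)
    (Q : Over (Spec (CommRingCat.of k))) [GrpObj Q] (j : Q ⟶ G) (hj : Red.IsParabolicOver k j)
    (hQne : Set.range j.left.base ≠ Set.univ)
    (hQmax : ∀ (Q' : Over (Spec (CommRingCat.of k))) [GrpObj Q'] (j' : Q' ⟶ G) [IsMonHom j'],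
      IsClosedImmersion j'.left → Smooth Q'.hom → Set.range j.left.base ⊆ Set.range j'.left.base →
      Set.range j'.left.base ⊆ Set.range j.left.base ∨ Set.range j'.left.base = Set.univ) :
    ∃ (D : Red.SplitRed G) (b : D.P.Base) (α : D.idx) (x : Module.Dual ℤ D.M), α ∈ b.support ∧
      0 < x (D.P.root α) ∧ (∀ i ∈ b.support, i ≠ α → x (D.P.root i) = 0) ∧
      IsDynP (Par.coch D x) j := by
  have hjm := hj.1
  have hjcl := hj.2.1
  have hjsm := hj.2.2.1
  have hjmono : Mono j := Over.mono_of_mono_left j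
  have hGsm := hG.2.1
  have hGo : Red.IsReductiveOver k G := AlgBc.isReductive_iff.1 hG
  have hGc : ConnectedSpace G.left := hGo.2.2.1
  have hQc : ConnectedSpace Q.left := (Uncond688.dynK2 k G Q j hGo hj).1
  have hGred : IsReduced G.left := isReduced_of_smooth G
  have hcS : ConnectedSpace (Spec (CommRingCat.of k)) := inferInstance
  obtain ⟨D, t, x₀, ht, hx₀⟩ := Groth.Agent.RedSub.H652.SplitK.exists_split hG j
    (AlgBc.isParabolic_iff.2 hj)
  have hred : D.P.IsReduced := SplitReduced415.isReduced D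
  obtain ⟨b, hb⟩ := Groth.Agent.RedSub.H671.IwaPt.exists_base D.P x₀.toAddMonoidHom
  have hb' : ∀ i ∈ b.support, 0 ≤ x₀ (D.P.root i) := fun i hi => hb i
    (RootPairing.Base.isPos_of_mem_support hi)
  have hneg : ∀ a, D.P.root (D.P.reflectionPerm a a) = - D.P.root a := fun a => by
    rw [RootPairing.root_reflectionPerm, RootPairing.reflection_apply_self]
  -- a simple root on which `x₀` is positive
  obtain ⟨α, hα, hα0⟩ : ∃ α ∈ b.support, 0 < x₀ (D.P.root α) := by
    by_contra hno
    push Not at hno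
    apply hQne
    have hall : ∀ a, x₀ (D.P.root a) = 0 := by
      intro a
      refine Submodule.span_induction (p := fun m _ => x₀ m = 0) ?_ (map_zero _) ?_ ?_
        (b.root_mem_span_int a)
      · rintro _ ⟨i, hi, rfl⟩
        exact le_antisymm (hno i hi) (hb' i hi)
      · intro m n _ _ hm hn
        rw [map_add, hm, hn, add_zero]
      · intro r m _ hm
        rw [map_smul, hm, smul_zero]
    have him : IsImmersion (𝟙 G : G ⟶ G).left := inferInstanceAs (IsImmersion (𝟙 G.left))
    obtain ⟨w, hw⟩ := Groth.Agent.RedSub.H635.Uniq.exists_le D (𝟙 G) (hasConnectedFibres G) D.i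
      (Category.comp_id _) j t ht (fun a _ => (root_iff D hx₀ a).2 (hall a).ge)
    rw [Set.eq_univ_iff_forall]
    intro y
    refine ⟨w.left y, ?_⟩
    have h1 := congrArg (fun z => z.left y) hw
    dsimp only at h1
    rw [Over.comp_left, Scheme.Hom.comp_apply] at h1
    exact h1
  obtain ⟨y, hy, hy0⟩ := K214.Lin.exists_functional (v := D.P.root) (s := b.support)
    b.linearIndepOn_root hα
  have hyn : ∀ i ∈ b.support, 0 ≤ y (D.P.root i) := by
    intro i hi
    by_cases h : i = α
    · rw [h]; exact hy.le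
    · exact (hy0 i hi h).ge
  have hyz : ∀ i ∈ b.support, x₀ (D.P.root i) = 0 → y (D.P.root i) = 0 := by
    intro i hi h
    refine hy0 i hi ?_
    rintro rfl
    exact hα0.ne' h
  have hcmp : ∀ a, 0 ≤ x₀ (D.P.root a) → 0 ≤ y (D.P.root a) := by
    intro a ha
    rcases RootPairing.Base.IsPos.or_neg b a with h | h
    · exact (nonneg_and hb' hyz hyn h).2.2
    · obtain ⟨h1, h2, -⟩ := nonneg_and hb' hyz hyn h
      change 0 ≤ x₀ (D.P.root (D.P.reflectionPerm a a)) at h1
      change x₀ (D.P.root (D.P.reflectionPerm a a)) = 0 → y (D.P.root (D.P.reflectionPerm a a)) = 0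
        at h2
      rw [hneg, map_neg] at h1 h2
      have h3 := h2 (by omega)
      rw [map_neg] at h3
      omega
  obtain ⟨Py, _, py, hpy, hpar⟩ := Groth.Agent.K547.DynTools.exists_isDynP (Par.coch D y) hG
  have hpm := hpar.1
  have hpcl := hpar.2.1
  have hpsm := hpar.2.2.1
  obtain ⟨ty, hty⟩ := exists_torus D hpy
  have hpmono : Mono py := Over.mono_of_mono_left py
  obtain ⟨f, hf⟩ := Groth.Agent.RedSub.H635.Uniq.exists_le D j (hasConnectedFibres Q) t ht py ty hty
    (fun a ha => (root_iff D hpy a).2 (hcmp a ((root_iff D hx₀ a).1 ha)))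
  have hsub : Set.range j.left.base ⊆ Set.range py.left.base := by
    rintro _ ⟨z, rfl⟩
    refine ⟨f.left z, ?_⟩
    have h1 := congrArg (fun w => w.left z) hf
    dsimp only at h1
    rw [Over.comp_left, Scheme.Hom.comp_apply] at h1
    exact h1
  have hPyred : IsReduced Py.left := isReduced_of_smooth Py
  rcases hQmax Py py hpcl hpsm hsub with h | h
  · obtain ⟨g, hg⟩ := exists_lift j py h
    refine ⟨D, b, α, y, hα, hy, hy0, hjm, hjmono, fun X z => ?_⟩
    rw [← hpy.iff_ptP]
    constructor
    · rintro ⟨w, rfl⟩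
      exact ⟨w ≫ f, by rw [Category.assoc, hf]⟩
    · rintro ⟨w, rfl⟩
      exact ⟨w ≫ g, by rw [Category.assoc, hg]⟩
  · exfalso
    obtain ⟨l, hl⟩ := exists_lift py (𝟙 G) (by rw [h]; exact Set.subset_univ _)
    have h1 := (root_iff D hpy (D.P.reflectionPerm α α)).1
      ⟨D.u (D.P.reflectionPerm α α) ≫ l, by rw [Category.assoc, hl, Category.comp_id]⟩
    rw [hneg, map_neg] at h1
    omega

end K214.Setup
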