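import Groth.Agent.ParSch.K214.LongZero

/-!
# The short root vectors and the short coroots are stable in the edge case
-/

set_option autoImplicit false
universe u
open CategoryTheory AlgebraicGeometry Polynomial

namespace K214.VStab

open Groth.Agent.Sga3B Groth.Agent.Sga3B.Cell Groth.Agent.Sga3B.Cell.Datum
  Groth.Agent.Sga3B.PinMod K214.ChevDual K214.ChevPts K214.ChainComb K214.PairComb K214.Brk
  K214.ParComb K214.Coord K214.LongZero K803.HtOne K803.Lie K803.RComb K803.Str K803.Split
  K213.RkOneR

lemma zpow_un1 {C : Type u} [CommRing C] (e : C) (h : e * e = 0) (n : ℤ) :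
    (((un1 e h) ^ n : Cˣ) : C) = 1 + n * e := by
  have hnat : ∀ n : ℕ, (((un1 e h) ^ n : Cˣ) : C) = 1 + n * e := by
    intro n
    induction n with
    | zero => simp
    | succ n ih =>
      rw [pow_succ, Units.val_mul, ih]
      change (1 + (n : C) * e) * (1 + e) = _
      push_cast
      linear_combination (n : C) * h
  obtain ⟨n, rfl | rfl⟩ := n.eq_nat_or_neg
  · rw [zpow_natCast, hnat]; push_cast; rfl
  · rw [zpow_neg, zpow_natCast]
    apply Units.inv_eq_of_mul_eq_one_right
    rw [hnat]
    push_cast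
    linear_combination (-(n : C) ^ 2) * h

variable {k : Type u} [Field k] {G : Over (Spec (CommRingCat.of k))} [GrpObj G]
  {D : Red.SplitRed G} {c : Chart G (𝟙 (Spec (CommRingCat.of k)))}
  {vd : D.idx → (Red.Ga (Spec (CommRingCat.of k)) ⟶ G)} {σ : D.idx → D.idx → ℤ}

variable (D c) in
/-- generators: the short root vectors and the short coroots -/
inductive Gens (ℓ : ℤ) {B : Type u} [CommRing B] [Algebra k B] (ε : B) : Pt k c.A B → Prop
  | uu (b : D.idx) (hb : len D.P b = ℓ) (y : B) : Gens ℓ ε ((c.datum D).uu b B (y * ε))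
  | cow (b : D.idx) (hb : len D.P b = ℓ) (y : B) (v : Bˣ) (hv : (v : B) = 1 + y * ε) :
      Gens ℓ ε ((c.datum D).i B (TPt.cow (D.P.coroot b) v))

variable (D c) in
/-- the subgroup generated by the short root vectors and the short coroots -/
def V (ℓ : ℤ) {B : Type u} [CommRing B] [Algebra k B] (ε : B) : Subgroup (Pt k c.A B) :=
  Subgroup.closure {g | Gens D c ℓ ε g}

variable {m ℓ : ℤ} {B : Type u} [CommRing B] [Algebra k B] {ε : B}

lemma uu_mem {b : D.idx} (hb : len D.P b = ℓ) (y : B) :
    (c.datum D).uu b B (y * ε) ∈ V D c ℓ ε := Subgroup.subset_closure (Gens.uu b hb y)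

lemma cow_mem {b : D.idx} (hb : len D.P b = ℓ) {y : B} {v : Bˣ} (hv : (v : B) = 1 + y * ε) :
    (c.datum D).i B (TPt.cow (D.P.coroot b) v) ∈ V D c ℓ ε :=
  Subgroup.subset_closure (Gens.cow b hb y v hv)

/-- the conjugation of the coroot vectors -/
lemma conj_cow (hε : ε * ε = 0) (T : Two D.P m ℓ) (hmk : (m : k) = 0) (a : D.idx) (x : B)
    {b : D.idx} (hb : len D.P b = ℓ) {y : B} {v : Bˣ} (hv : (v : B) = 1 + y * ε) :
    (c.datum D).uu a B x * (c.datum D).i B (TPt.cow (D.P.coroot b) v) *
      ((c.datum D).uu a B x)⁻¹ ∈ V D c ℓ ε := by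
  have hyε : (y * ε) * (y * ε) = 0 := by linear_combination (y * y) * hε
  have hv1 : v = un1 (y * ε) hyε := Units.ext hv
  set t : TPt D.M B := TPt.cow (D.P.coroot b) v with ht
  have h1 : (c.datum D).uu a B x * (c.datum D).i B t * ((c.datum D).uu a B x)⁻¹ =
      (c.datum D).i B t * ((c.datum D).i B t⁻¹ * (c.datum D).uu a B x * ((c.datum D).i B t⁻¹)⁻¹ *
        ((c.datum D).uu a B x)⁻¹) := by
    have h0 : (c.datum D).i B t⁻¹ = ((c.datum D).i B t)⁻¹ := map_inv _ t
    rw [h0]
    group
  have hch : TPt.ch (D.P.root a) t⁻¹ = 1 + ((-(D.P.pairing a b) : ℤ) : B) * (y * ε) := by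
    have h0 : D.P.coroot b (D.P.root a) = D.P.pairing a b :=
      coroot_root (D := c.datum D) D.P D.pairing_eq b a
    rw [ht, ← cow_inv, TPt.ch_cow, h0, inv_zpow, ← zpow_neg, hv1, zpow_un1]
  have h2 : (c.datum D).i B t⁻¹ * (c.datum D).uu a B x * ((c.datum D).i B t⁻¹)⁻¹ *
        ((c.datum D).uu a B x)⁻¹ =
      (c.datum D).uu a B ((((-(D.P.pairing a b) : ℤ) : B) * y * x) * ε) := by
    rw [(c.datum D).rel, uu_inv, ← (c.datum D).uu_add]
    congr 1
    change TPt.ch (D.P.root a) t⁻¹ * x + -x = _
    rw [hch]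
    ring
  refine (congrArg (fun g => g ∈ V D c ℓ ε)
    (h1.trans (congrArg (fun g => (c.datum D).i B t * g) h2))).mpr ?_
  refine mul_mem (cow_mem hb hv) ?_
  rcases T.lens a with ha | ha
  · exact uu_mem ha _
  · -- `a` long: the pairing is divisible by `m`
    have h3 := len_swap (P := D.P) a b
    rw [ha, hb] at h3
    have hℓ := T.pos a
    have h4 : D.P.pairing a b = D.P.pairing b a * m := by
      have h5 : (D.P.pairing a b - D.P.pairing b a * m) * ℓ = 0 := by linarith
      rcases mul_eq_zero.mp h5 with h6 | h6 <;> omega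
    have hmB : ((m : ℤ) : B) = 0 := by
      have := congrArg (algebraMap k B) hmk
      rwa [map_intCast, map_zero] at this
    have h5 : ((-(D.P.pairing a b) : ℤ) : B) = 0 := by
      rw [h4]
      push_cast
      rw [hmB]
      ring
    rw [h5, zero_mul, zero_mul, zero_mul, (c.datum D).uu_zero]
    exact one_mem _

/-- the conjugation of the root vectors: opposite roots -/
lemma conj_neg (H : Chv D D.u vd σ) (Δ : D.P.Base) (hε : ε * ε = 0) {a : D.idx}
    (ha : len D.P a = ℓ) (x y : B) :
    (c.datum D).uu a B x * (c.datum D).uu (D.P.reflectionPerm a a) B (y * ε) *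
      ((c.datum D).uu a B x)⁻¹ ∈ V D c ℓ ε := by
  obtain ⟨κ, hκ, -⟩ := exists_dual_chart c H Δ a
  set y' : B := algebraMap k B ((κ⁻¹ : kˣ) : k) * (y * ε) with hy'
  have hyy : algebraMap k B (κ : k) * y' = y * ε := by
    rw [hy', ← mul_assoc, ← map_mul, Units.mul_inv, map_one, one_mul]
  have hxy : (x * y') * (x * y') = 0 := by
    rw [hy']
    linear_combination (x * algebraMap k B ((κ⁻¹ : kˣ) : k) * y) ^ 2 * hε
  have h1 := hκ x y' (un1 (x * y') hxy) rfl
  have hinv : (((un1 (x * y') hxy)⁻¹ : Bˣ) : B) = 1 - x * y' := rfl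
  have hy2 : y' * (x * y') = 0 := by
    rw [hy']
    linear_combination (x * (algebraMap k B ((κ⁻¹ : kˣ) : k) * y) ^ 2) * hε
  rw [hinv, hyy] at h1
  have h2 : algebraMap k B (κ : k) * ((1 - x * y') * y') = y * ε := by
    rw [← hyy]
    linear_combination (-(algebraMap k B (κ : k))) * hy2
  rw [h2] at h1
  have h3 : (c.datum D).uu a B x * (c.datum D).uu (D.P.reflectionPerm a a) B (y * ε) *
      ((c.datum D).uu a B x)⁻¹ = (c.datum D).uu (D.P.reflectionPerm a a) B (y * ε) *
        (c.datum D).i B (TPt.cow (D.P.coroot a) (un1 (x * y') hxy)) *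
        (c.datum D).uu a B ((-(x * algebraMap k B ((κ⁻¹ : kˣ) : k) * y * x)) * ε) := by
    have h4 : (c.datum D).uu a B ((1 - x * y') * x) * ((c.datum D).uu a B x)⁻¹ =
        (c.datum D).uu a B ((-(x * algebraMap k B ((κ⁻¹ : kˣ) : k) * y * x)) * ε) := by
      rw [uu_inv, ← (c.datum D).uu_add]
      congr 1
      rw [hy']
      ring
    have h5 := congrArg (· * ((c.datum D).uu a B x)⁻¹) h1
    refine h5.trans ?_
    rw [← h4]
    exact mul_assoc _ _ _
  rw [h3]
  refine mul_mem (mul_mem (uu_mem (by rw [len_neg, ha]) y)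
    (cow_mem ha (y := x * algebraMap k B ((κ⁻¹ : kˣ) : k) * y) ?_)) (uu_mem ha _)
  change 1 + x * y' = _
  rw [hy']
  ring

/-- the conjugation of the root vectors -/
lemma conj_uu (H : Chv D D.u vd σ) (Δ : D.P.Base) (hε : ε * ε = 0) (T : Two D.P m ℓ)
    (hmk : (m : k) = 0) (a : D.idx) (x : B) {b : D.idx} (hb : len D.P b = ℓ) (y : B) :
    (c.datum D).uu a B x * (c.datum D).uu b B (y * ε) * ((c.datum D).uu a B x)⁻¹ ∈ V D c ℓ ε := by
  have hred := isReduced D
  by_cases hab : b = a
  · subst hab
    have h1 : (c.datum D).uu b B x * (c.datum D).uu b B (y * ε) * ((c.datum D).uu b B x)⁻¹ =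
        (c.datum D).uu b B (y * ε) := by
      rw [uu_inv, ← (c.datum D).uu_add, ← (c.datum D).uu_add]
      congr 1
      ring
    rw [h1]
    exact uu_mem hb y
  by_cases hab' : b = D.P.reflectionPerm a a
  · subst hab'
    exact conj_neg H Δ hε (by rwa [len_neg] at hb) x y
  have hLI : LI D.P a b := by
    intro r s hrs
    by_contra hcon
    have hli : ¬ LinearIndependent ℤ ![D.P.root a, D.P.root b] := by
      intro h1
      exact hcon ((LinearIndependent.pair_iff.mp h1) r s hrs)
    rcases RootPairing.IsReduced.eq_or_eq_neg (P := D.P) a b hli with h1 | h1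
    · exact hab (D.P.root.injective h1).symm
    · exact hab' (D.P.root.injective (by rw [K221.Prop.root_neg, h1, neg_neg]))
  obtain ⟨L, δ, hL, hL', hδ, hδ0⟩ := exists_list D c
  obtain ⟨C, C', d, d', h1, h2, h3, h4, h5⟩ := exists_comm hLI.lin hδ hδ0
  have hyε : (y * ε) * (y * ε) = 0 := by linear_combination (y * y) * hε
  have h6 := h4 B x (y * ε) hyε
  rw [mul_inv_eq_iff_eq_mul] at h6
  rw [h6]
  refine mul_mem ?_ (uu_mem hb y)
  rw [Datum.cell, map_one, mul_one]
  apply list_prod_mem
  intro g hg
  obtain ⟨e, -, rfl⟩ := List.mem_map.mp hg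
  by_cases hCe : C e = 0
  · rw [hCe, map_zero, zero_mul, (c.datum D).uu_zero]
    exact one_mem _
  · rcases T.lens e with he | he
    · have h7 : algebraMap k B (C e) * (x ^ d e * (y * ε)) =
          (algebraMap k B (C e) * (x ^ d e * y)) * ε := by ring
      rw [h7]
      exact uu_mem he _
    · exfalso
      rcases T.lens a with ha | ha
      · exact hCe (coeff_long H Δ T hmk hLI ha hb hL hL' h1 h4 he)
      · -- `a` long, `b` short: the string has length at most one
        obtain ⟨hi, hr⟩ := h1 e hCe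
        have hr' : D.P.root e = D.P.root b + ((d e : ℕ) : ℤ) • D.P.root a := by
          rw [← hr, natCast_zsmul, add_comm]
        have h8 := T.short_pairing hb hab hab'
        have h9 := pairing_of_root hr'
        have hLIe : LI D.P a e := hLI.of_root hr'
        have h12 := len_swap (P := D.P) e a
        rw [he, ha] at h12
        have hℓ := T.pos e
        have hm := T.hm
        have h13 : D.P.pairing e a = D.P.pairing a e := by
          have h14 : (D.P.pairing e a - D.P.pairing a e) * (m * ℓ) = 0 := by linarith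
          rcases mul_eq_zero.mp h14 with h15 | h15
          · omega
          · rcases hm with rfl | rfl <;> omega
        have h16 := K803.RComb.pairs (P := D.P) (a := e) (b := a) (by
            rintro rfl
            have := hLIe 1 (-1) (by module)
            omega) (by
            intro h
            have := hLIe 1 1 (by rw [h, K221.Prop.root_neg]; module)
            omega)
        have hi1 : (1 : ℤ) ≤ (d e : ℕ) := by omega
        have h23 : ((d e : ℕ) : ℤ) = 1 ∧ D.P.pairing b a = -1 := by
          rcases h16 with h | h | h | h | h | h | h | h | h | h | h <;> omega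
        have h24 : e = D.P.reflectionPerm a b := D.P.root.injective (by
          rw [Brk.root_refl, h23.2, hr', h23.1]; module)
        rw [h24, len_refl, hb] at he
        rcases hm with rfl | rfl <;> omega

end K214.VStab
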